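import Groth.Agent.Lib.ProjDualExt.Generic
import Groth.Agent.Lib.ProjDualExt.Dualizing
import Groth.Agent.Lib.ModTensor.ModSite
import Groth.Agent.Lib.ModSS29.ChangeRings
import Groth.Agent.Lib.DerivedOX.Grothendieck
import Groth.Agent.Lib.ProjSpace.Dim

/-!
An integral closed subscheme of projective space has a coherent module with nonzero top cohomology:
its dualizing sheaf.
-/

set_option autoImplicit false
set_option linter.style.haveILetI false

universe u

open CategoryTheory CategoryTheory.Limits AlgebraicGeometry TopologicalSpace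

namespace Groth.Agent.H23.Lichtenbaum.Projective

open Groth.Agent.Lib Groth.Agent.Lib.ModSS29 Groth.Agent.Lib.ProjDualExt

/-- The dualizing sheaf of an integral closed subscheme of `P^N` has nonzero top cohomology. -/
theorem exists_coh_not_subsingleton {k : Type u} [Field k] {N : ℕ} {Y : Scheme.{u}} [IsIntegral Y]
    (ι : Y ⟶ CohB1.ProjSpace N k) [IsClosedImmersion ι] {n : ℕ}
    (hdim : topologicalKrullDim Y = (n : WithBot ℕ∞)) :
    ∃ ω : Y.Modules, Coh.IsCoh ω ∧ ¬ Subsingleton (Coh.HH Y ω n) := by
  letI : Y.Over (Spec (CommRingCat.of k)) := ⟨ι ≫ CohB1.ProjSpace.toSpec N k⟩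
  have hnN : n ≤ N := by
    have h := ι.isClosedEmbedding.isInducing.topologicalKrullDim_le
    rw [hdim, ProjSpace.Dim.topologicalKrullDim_projSpace_of_field] at h
    exact_mod_cast h
  haveI := ModTensor.ModSite.hasSheafHom (O := (CohB1.ProjSpace N k).sheaf)
    ((Scheme.Modules.pushforward ι).obj (Coh.structureModule Y))
  haveI : HasInjectiveResolutions (ModSite.Mod (CohB1.ProjSpace N k).sheaf) :=
    inferInstanceAs (HasInjectiveResolutions (CohB1.ProjSpace N k).Modules)
  haveI := ChangeRings.preservesHomology_push ι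
  haveI h1 : (ChangeRings.phi ι (Coh.structureModule Y) ⋙ Scheme.Modules.pushforward ι).Additive :=
    inferInstance
  haveI h2 := ModSite.sheafHom_additive (O := (CohB1.ProjSpace N k).sheaf)
    ((Scheme.Modules.pushforward ι).obj (Coh.structureModule Y))
  let G := _root_.Twist.twistProjSpace N k (-((N : ℤ) + 1))
  let ω : Y.Modules := ((ChangeRings.phi ι (Coh.structureModule Y)).rightDerived (N - n)).obj G
  have hω : Nonempty ((Scheme.Modules.pushforward ι).obj ω ≅
      (ModSite.extSh (O := (CohB1.ProjSpace N k).sheaf)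
        ((Scheme.Modules.pushforward ι).obj (Coh.structureModule Y)) (N - n)).obj G) :=
    ⟨((DerivedNat.postIso (ChangeRings.phi ι (Coh.structureModule Y))
      (Scheme.Modules.pushforward ι) (N - n)).app G).symm ≪≫
    @SpecSeq.Composite.rightDerivedCongr (CohB1.ProjSpace N k).Modules _ _
      (CohB1.ProjSpace N k).Modules _ _ _
      (ChangeRings.phi ι (Coh.structureModule Y) ⋙ Scheme.Modules.pushforward ι)
      (ModSite.sheafHom (O := (CohB1.ProjSpace N k).sheaf)
        ((Scheme.Modules.pushforward ι).obj (Coh.structureModule Y))) h1 h2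
      (ChangeRings.phiPushIso ι (Coh.structureModule Y)) (N - n) G⟩
  obtain ⟨t, ht⟩ := Dualizing.exists_dualizing ι rfl (n := n) (c := N - n) (by omega) hdim.le ω hω
  have hcoh : Coh.IsCoh ω := Dualizing.isCoh_omega ι hω
  refine ⟨ω, hcoh, fun hs => ?_⟩
  haveI := hs
  have hid : (𝟙 ω : ω ⟶ ω) = 0 := (ht ω hcoh 0).unique
    (fun x => by rw [Subsingleton.elim x 0]; simp) (fun x => by rw [Subsingleton.elim x 0]; simp)
  have hzero : IsZero ω := (IsZero.iff_id_eq_zero ω).2 hid
  have hcomp : ∀ Z : Set Y, Z ∈ irreducibleComponents Y → topologicalKrullDim Z = (n : WithBot ℕ∞) := by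
    intro Z hZ
    rw [irreducibleComponents_eq_singleton, Set.mem_singleton_iff] at hZ
    subst hZ
    rw [← hdim]
    exact (Homeomorph.Set.univ Y).isHomeomorph.topologicalKrullDim_eq _
  have hgen : closure ({genericPoint Y} : Set Y) ∈ irreducibleComponents Y := by
    rw [irreducibleComponents_eq_singleton, Set.mem_singleton_iff]
    exact genericPoint_spec Y
  haveI := ProjCoh.ClosedSub.isLocallyNoetherian ι
  have hrank := Generic.finrank_stalk ι (fun p => ProjDualExt.Twist.injStalk p) _
    (ProjCoh.Coherent.isInvertible_tw _) (N - n) ω hω (CohB1.ProjSpace.toSpec N k)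
    (fun p => WeilExt.Basic.isRegularLocalRing_stalk (CohB1.ProjSpace.toSpec N k) p)
    (Nat.sub_add_cancel hnN) (fun Z hZ => ExtShStalk.Zero.projSpace_components N k Z hZ) hcomp
    (genericPoint Y) (Generic.isMaxPt_of_closure_mem hgen) inferInstance
  haveI : Subsingleton (ω.presheaf.stalk (genericPoint Y)) := by
    refine subsingleton_of_forall_eq 0 fun v => ?_
    obtain ⟨W, hxW, s, rfl⟩ := ω.presheaf.exists_germ_eq v
    rw [show s = 0 from congr(($(hzero.eq_of_src (𝟙 ω) 0)).app W s), map_zero]
  rw [Module.finrank_zero_of_subsingleton] at hrank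
  exact zero_ne_one hrank

end Groth.Agent.H23.Lichtenbaum.Projective
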