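import Groth.Agent.H23.Lichtenbaum.GenSurj
import Groth.Agent.H22.BlowUpAmple
import Groth.Agent.Lib.Exchange.RelVanish
import Groth.Agent.Lib.ZarCoh.PushH
import Groth.Agent.Lib.KoszulSh.Divisor.Basic
import Groth.Agent.Lib.Modules.LocalSections
import Groth.Agent.Lib.Cyc.PP.Push
import Groth.Agent.H22.StrictTransform.Near
import Groth.Agent.Lib.Ideal.BlowUp

/-!
Top cohomology of direct images along a blow-up with vanishing top cohomology upstairs.
-/

set_option autoImplicit false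

universe u

open CategoryTheory CategoryTheory.Limits AlgebraicGeometry TopologicalSpace Opposite

namespace Groth.Agent.H23.Lichtenbaum.Push

open Groth.Agent.Lib Groth.Agent.Lib.BlowUpExists

/-- Surjectivity on sections over affine opens inside `U` gives an epimorphism on `U`. -/
theorem epi_restrict_of_sections {X : Scheme.{u}} {M N : X.Modules} (φ : M ⟶ N) (U : X.Opens)
    (h : ∀ W : X.Opens, IsAffineOpen W → W ≤ U → Function.Surjective (φ.app W)) :
    Epi ((Scheme.Modules.restrictFunctor U.ι).map φ) := by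
  refine Modules.LocalSections.epi_of_local fun V n x hx => ?_
  obtain ⟨W, hW, hxW, hle⟩ := exists_isAffineOpen_mem_and_subset hx
  have hWU : U.ι ''ᵁ W ≤ U := by
    rintro _ ⟨z, -, rfl⟩
    exact z.2
  obtain ⟨m, hm⟩ := h (U.ι ''ᵁ W) (hW.image_of_isOpenImmersion U.ι) hWU
    ((TensorMod.Dual.rs ((Scheme.Modules.restrictFunctor U.ι).obj N) hle n : _))
  exact ⟨W, hle, m, hxW, hm⟩

/-- The ideal is the unit ideal on an affine open avoiding the support. -/
theorem ideal_eq_top {X : Scheme.{u}} (E : X.IdealSheafData) (W : X.affineOpens)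
    (h : ∀ x ∈ W.1, x ∉ E.support) : E.ideal W = ⊤ := by
  rw [← PrimeSpectrum.zeroLocus_empty_iff_eq_top, Set.eq_empty_iff_forall_notMem]
  intro p hp
  have h1 : W.2.fromSpec p ∈ (W.1 : Set X) := W.2.range_fromSpec ▸ ⟨p, rfl⟩
  refine h _ h1 ?_
  rw [Scheme.IdealSheafData.mem_support_iff_of_mem h1]
  have h2 : W.2.fromSpec p ∈ W.2.fromSpec '' PrimeSpectrum.zeroLocus (E.ideal W : Set Γ(X, W.1)) := ⟨p, hp, rfl⟩
  rw [W.2.fromSpec_image_zeroLocus] at h2
  exact h2.1

theorem isAffineOpen_preimage_of_le {X Y : Scheme.{u}} (q : Y ⟶ X) {V W : X.Opens} [IsIso (q ∣_ V)]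
    (hW : IsAffineOpen W) (h : W ≤ V) : IsAffineOpen (q ⁻¹ᵁ W) := by
  haveI : IsAffine (W : Scheme.{u}) := hW
  haveI : IsIso (q ∣_ W) := H22.StrictTransform.isIso_restrict_of_le (φ := q) h
  exact isAffine_of_isAffineHom (q ∣_ W)

variable {k : Type u} [Field k] {X : Scheme.{u}} [IsIntegral X] (f : X ⟶ Spec (CommRingCat.of k))
  [IsSeparated f] [LocallyOfFiniteType f] [QuasiCompact f]

include f in
/-- High twists by the exceptional ideal have the same cohomology as their direct image. -/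
theorem exists_pushH_bijective (I : X.IdealSheafData) (hI : ∀ V, (I.ideal V).FG) [IsProper (blProj I)]
    (M : (bl I).Modules) (hM : Coh.IsCoh M) :
    ∃ n₀ : ℕ, ∀ n, n₀ ≤ n → ∀ p : ℕ, Function.Bijective (ZarCoh.PushH.pushH (blProj I).base
      (Coh.toAb (CohB1.tensorMod M (CohB1.tensorPow (H22.BlowUpAmple.excMod I) n))) p) := by
  classical
  haveI : IsLocallyNoetherian X := LocallyOfFiniteType.isLocallyNoetherian f
  haveI : CompactSpace X := QuasiCompact.compactSpace_of_compactSpace f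
  haveI : AlgebraicGeometry.IsNoetherian X := {}
  haveI : IsLocallyNoetherian (bl I) := LocallyOfFiniteType.isLocallyNoetherian (blProj I)
  let q := blProj I
  let L := H22.BlowUpAmple.excMod I
  have hL : PicF.IsInvertible L := ClSub.Cartier.isInvertible_idealMod (H22.BlowUpAmple.isBlowUp_blProj I).1
  choose V hV hxV using fun x : X =>
    (exists_isAffineOpen_mem_and_subset (X := X) (x := x) (U := ⊤) trivial).imp
      fun V hV => And.intro hV.1 hV.2.1
  obtain ⟨T, hT⟩ := isCompact_univ.elim_finite_subcover (fun x => (V x : Set X))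
    (fun x => (V x).2) fun x _ => Set.mem_iUnion.2 ⟨x, hxV x⟩
  have hn : ∀ x : X, ∃ n₀ : ℕ, ∀ n, n₀ ≤ n → ∀ p : ℕ, Subsingleton (Coh.HH _
      ((CohB1.tensorMod M (CohB1.tensorPow L n)).restrict (q ⁻¹ᵁ V x).ι) (p + 1)) := fun x => by
    haveI : IsNoetherianRing Γ(X, V x) := IsLocallyNoetherian.component_noetherian ⟨V x, hV x⟩
    letI : (q ⁻¹ᵁ V x : Scheme.{u}).Over (Spec (CommRingCat.of Γ(X, V x))) :=
      ⟨Exchange.RelVanish.overA q (hV x)⟩
    haveI : IsProper (q ∣_ V x) :=
      MorphismProperty.of_isPullback (P := @IsProper) (isPullback_morphismRestrict q (V x)).flip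
        inferInstance
    haveI : IsProper ((q ⁻¹ᵁ V x : Scheme.{u}) ↘ Spec (CommRingCat.of Γ(X, V x))) :=
      inferInstanceAs (IsProper (Exchange.RelVanish.overA q (hV x)))
    obtain ⟨n₀, hn₀⟩ := Groth.Agent.H78.Existence.AmpleVanish.exists_subsingleton Γ(X, V x)
      (H22.BlowUpAmple.isAmple_excMod hI ⟨V x, hV x⟩)
      (CohBasics.Closure.isCoh_of_iso ((Scheme.Modules.restrictFunctorIsoPullback _).app M).symm
        (Cyc.FP.Stalk.isCoh_pullback (q ⁻¹ᵁ V x).ι hM))
    refine ⟨n₀, fun n hn p => ?_⟩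
    haveI := hn₀ n hn p
    exact (Curves.LES.isoK Γ(X, V x) (TensorMod.Pullback.restrictTensorIso (q ⁻¹ᵁ V x).ι M _ ≪≫
      TensorMod.Basic.tensorIso (Iso.refl _) (Ample.Pow.restrictPow _ L n)) (p + 1)).toEquiv.subsingleton
  choose n₀ hn₀ using hn
  refine ⟨T.sup n₀, fun n hn p => ?_⟩
  haveI : (CohB1.tensorMod M (CohB1.tensorPow L n)).IsQuasicoherent :=
    (CohBasics.Closure.isCoh_of_iso (TensorMod.Basic.comm _ M) (Snapper.Twist.isCoh_twist
      (TensorMod.Invertible.isInvertible_tensorPow hL n) hM)).1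
  refine ZarCoh.PushH.pushH_bijective q.base
    (B := {W | ∃ x ∈ T, IsAffineOpen (W : X.Opens) ∧ W ≤ V x}) ?_ _ (fun W ⟨x, hx, hW, hWV⟩ r =>
      Exchange.RelVanish.subsingleton_preimage_of_le q _ (hV x) hW hWV (r + 1)
        (hn₀ x n ((Finset.le_sup hx).trans hn) r)) p
  refine Opens.isBasis_iff_nbhd.2 fun {U y} hy => ?_
  obtain ⟨x, hx, hyx⟩ := Set.mem_iUnion₂.1 (hT (Set.mem_univ y))
  obtain ⟨W, hW, hyW, hle⟩ := exists_isAffineOpen_mem_and_subset (U := U ⊓ V x) (x := y) ⟨hy, hyx⟩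
  exact ⟨W, ⟨x, hx, hW, fun z hz => (hle hz).2⟩, hyW, fun z hz => (hle hz).1⟩

include f in
/-- If top cohomology vanishes upstairs, it vanishes on direct images of coherent modules. -/
theorem subsingleton_HH_push {n : ℕ} (hd : topologicalKrullDim X ≤ ((n + 1 : ℕ) : WithBot ℕ∞))
    (I : X.IdealSheafData) (hI : ∀ V, (I.ideal V).FG) [IsProper (blProj I)]
    (hne : (I.support.compl : Set X).Nonempty)
    (hup : ∀ M : (bl I).Modules, Coh.IsQCoh M → Subsingleton (Coh.HH (bl I) M (n + 1)))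
    (H : (bl I).Modules) (hH : Coh.IsCoh H) :
    Subsingleton (Coh.HH X ((Coh.push (blProj I)).obj H) (n + 1)) := by
  haveI : IsLocallyNoetherian X := LocallyOfFiniteType.isLocallyNoetherian f
  haveI : CompactSpace X := QuasiCompact.compactSpace_of_compactSpace f
  haveI : AlgebraicGeometry.IsNoetherian X := {}
  haveI : IsLocallyNoetherian (bl I) := LocallyOfFiniteType.isLocallyNoetherian (blProj I)
  letI : X.Over (Spec (CommRingCat.of k)) := ⟨f⟩
  haveI hiso := Ideal.BlowUp.isIso_off_center (H22.BlowUpAmple.isBlowUp_blProj I)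
  obtain ⟨m, hm⟩ := exists_pushH_bijective f I hI H hH
  let L := H22.BlowUpAmple.excMod I
  have hL : PicF.IsInvertible L := ClSub.Cartier.isInvertible_idealMod (H22.BlowUpAmple.isBlowUp_blProj I).1
  have hcoh : Coh.IsCoh (CohB1.tensorMod H (CohB1.tensorPow L m)) :=
    CohBasics.Closure.isCoh_of_iso (TensorMod.Basic.comm _ H) (Snapper.Twist.isCoh_twist
      (TensorMod.Invertible.isInvertible_tensorPow hL m) hH)
  let ι := _root_.ClSub.idealModι (I.comap (blProj I))
  refine GenSurj.subsingleton_of_generic_epi k hd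
    ((Coh.push (blProj I)).map (KoszulSh.Divisor.contract ι H m)) hne
    (epi_restrict_of_sections _ _ fun W hW hWU => ?_) ?_
  · have haff : IsAffineOpen (blProj I ⁻¹ᵁ W) := isAffineOpen_preimage_of_le _ hW hWU
    have htop : (I.comap (blProj I)).ideal ⟨blProj I ⁻¹ᵁ W, haff⟩ = ⊤ :=
      ideal_eq_top _ _ fun x hx hxs => by
        rw [Scheme.IdealSheafData.support_comap] at hxs
        exact hWU hx hxs
    obtain ⟨e, he⟩ := (ClSub.Sections.mem_range_idealModι_app_affine_iff (I.comap (blProj I))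
      ⟨_, haff⟩ 1).2 (by rw [htop]; trivial)
    intro s
    refine ⟨Modules.TensorGen.tg H (KoszTw.tprod L m (blProj I ⁻¹ᵁ W) fun _ => e) s, ?_⟩
    refine (KoszulSh.Divisor.contract_tg ι H m (blProj I ⁻¹ᵁ W) e 1 he s).trans ?_
    rw [one_pow, one_smul]
  · exact (@Equiv.subsingleton _ _ (Equiv.ofBijective _ (hm m le_rfl (n + 1))) (hup _ hcoh.1) :)

end Groth.Agent.H23.Lichtenbaum.Push
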