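import Groth.Agent.H23.Lichtenbaum.Model
import Groth.Agent.H23.Lichtenbaum.Push
import Groth.Agent.H23.Lichtenbaum.Projective
import Groth.Agent.Lib.Curves.GlobalSections
import Groth.Agent.Lib.PointDim.Basic

/-!
A proper variety has a coherent module with nonzero cohomology in the degree of its dimension.
-/

set_option autoImplicit false
set_option maxHeartbeats 1000000
set_option linter.style.haveILetI false

universe u

open CategoryTheory CategoryTheory.Limits AlgebraicGeometry TopologicalSpace Opposite

namespace Groth.Agent.H23.Lichtenbaum.Proper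

open Groth.Agent.Lib Groth.Agent.Lib.BlowUpExists

variable {k : Type u} [Field k] {X : Scheme.{u}} (f : X ⟶ Spec (CommRingCat.of k))
  [LocallyOfFiniteType f]

include f in
/-- A variety has finite dimension. -/
theorem exists_dim_eq [IrreducibleSpace X] : ∃ d : ℕ, topologicalKrullDim X = (d : WithBot ℕ∞) := by
  refine ⟨_, Eq.trans ?_ (PointDim.Basic.topologicalKrullDim_closure_singleton f (genericPoint X))⟩
  rw [genericPoint_spec X]
  exact ((Homeomorph.Set.univ X).isHomeomorph.topologicalKrullDim_eq _).symm

variable [IsSeparated f] [QuasiCompact f]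

/-- A zero-dimensional scheme of finite type over a field is proper. -/
theorem isProper_of_dim_le_zero (h : topologicalKrullDim X ≤ 0) : IsProper f := by
  haveI : IsLocallyNoetherian X := LocallyOfFiniteType.isLocallyNoetherian f
  haveI : CompactSpace X := QuasiCompact.compactSpace_of_compactSpace f
  haveI := IsLocallyArtinian.of_topologicalKrullDim_le_zero h
  haveI : IsArtinianScheme X := {}
  haveI : LocallyQuasiFinite f := .of_finite_preimage_singleton f fun _ => Set.toFinite _
  haveI : IsLocallyArtinian (Spec (CommRingCat.of k)) := Scheme.isLocallyArtinianScheme_Spec.mpr inferInstance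
  haveI := IsFinite.of_locallyQuasiFinite f
  infer_instance

/-- A proper variety of dimension `d` has a coherent module with nonzero `H^d`. -/
theorem exists_coh_not_subsingleton [IsIntegral X] [IsProper f] {d : ℕ}
    (hd : topologicalKrullDim X = (d : WithBot ℕ∞)) :
    ∃ F : X.Modules, Coh.IsCoh F ∧ ¬ Subsingleton (Coh.HH X F d) := by
  haveI : IsLocallyNoetherian X := LocallyOfFiniteType.isLocallyNoetherian f
  haveI : CompactSpace X := QuasiCompact.compactSpace_of_compactSpace f
  cases d with
  | zero =>
    refine ⟨Coh.structureModule X, Snapper.Twist.isCoh_structureModule X, fun h => ?_⟩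
    haveI := h
    haveI : Subsingleton Γ(X, (⊤ : X.Opens)) :=
      (Curves.GlobalSections.h0Equiv (Coh.structureModule X)).symm.toEquiv.subsingleton
    exact not_nontrivial Γ(X, (⊤ : X.Opens)) inferInstance
  | succ n =>
    obtain ⟨I, N, j, hI, hne, hq, hqs, hint, hj, hjf, hdim, hiso⟩ := Model.exists_model f
    haveI := hq
    haveI := hqs
    haveI := hint
    haveI := hiso
    haveI := hj
    let q := blProj I
    haveI : IsLocallyNoetherian (bl I) := LocallyOfFiniteType.isLocallyNoetherian q
    haveI : CompactSpace (bl I) := QuasiCompact.compactSpace_of_compactSpace q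
    haveI : AlgebraicGeometry.IsNoetherian (bl I) := {}
    haveI : IsProper (j ≫ CohB1.ProjSpace.toSpec N k) := by rw [hjf]; infer_instance
    haveI : IsSeparated (CohB1.ProjSpace.toSpec N k) := by
      haveI := Groth.Agent.Lib.ProjSpace.Basic.isProper_toSpec N k
      infer_instance
    haveI : IsProper j := IsProper.of_comp j (CohB1.ProjSpace.toSpec N k)
    haveI : IsClosedImmersion j :=
      IsClosedImmersion.of_isPreimmersion j j.isClosedMap.isClosed_range
    obtain ⟨H, hH, hHn⟩ := Projective.exists_coh_not_subsingleton j (hdim.trans hd)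
    obtain ⟨m, hm⟩ := Push.exists_pushH_bijective f I hI H hH
    let L := H22.BlowUpAmple.excMod I
    have hL : PicF.IsInvertible L :=
      ClSub.Cartier.isInvertible_idealMod (H22.BlowUpAmple.isBlowUp_blProj I).1
    have hcoh : Coh.IsCoh (CohB1.tensorMod H (CohB1.tensorPow L m)) :=
      CohBasics.Closure.isCoh_of_iso (TensorMod.Basic.comm _ H) (Snapper.Twist.isCoh_twist
        (TensorMod.Invertible.isInvertible_tensorPow hL m) hH)
    refine ⟨(Coh.push q).obj (CohB1.tensorMod H (CohB1.tensorPow L m)),
      Cyc.PP.Push.isCoh_push q hcoh, fun hs => hHn ?_⟩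
    letI : (bl I).Over (Spec (CommRingCat.of k)) := ⟨q ≫ f⟩
    let ι := _root_.ClSub.idealModι (I.comap q)
    refine GenSurj.subsingleton_of_generic_epi k (hdim.trans hd).le
      (KoszulSh.Divisor.contract ι H m) (U := q ⁻¹ᵁ I.support.compl)
      (hne.preimage q.surjective)
      (Push.epi_restrict_of_sections _ _ fun W hW hWU => ?_) ?_
    · have htop : (I.comap q).ideal ⟨W, hW⟩ = ⊤ :=
        Push.ideal_eq_top _ _ fun x hx hxs => by
          rw [Scheme.IdealSheafData.support_comap] at hxs
          exact hWU hx hxs
      obtain ⟨e, he⟩ := (_root_.Groth.Agent.Lib.ClSub.Sections.mem_range_idealModι_app_affine_iff (I.comap q)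
        ⟨W, hW⟩ 1).2 (by rw [htop]; trivial)
      intro s
      refine ⟨Modules.TensorGen.tg H (KoszTw.tprod L m W fun _ => e) s, ?_⟩
      refine (KoszulSh.Divisor.contract_tg ι H m W e 1 he s).trans ?_
      rw [one_pow, one_smul]
    · exact @Equiv.subsingleton _ _ (Equiv.ofBijective _ (hm m le_rfl (n + 1))).symm hs

end Groth.Agent.H23.Lichtenbaum.Proper
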