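import Groth.Agent.H23.Lichtenbaum.Main
import Groth.Agent.H23.Lichtenbaum.Proper
import Groth.Agent.Lib.CohDelta.Filtration
import Groth.Agent.Lib.ZarCoh.Morph

/-!
Lichtenbaum's theorem: `H^d` of a `d`-dimensional scheme of finite type over a field vanishes exactly
when it has no proper component of dimension `d`.
-/

set_option autoImplicit false
set_option linter.style.haveILetI false

universe u

open CategoryTheory CategoryTheory.Limits AlgebraicGeometry TopologicalSpace Opposite

namespace Groth.Agent.H23.Lichtenbaum.Final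

open Groth.Agent.Lib Groth.Agent.Lib.Devissage.Basic

variable {k : Type u} [Field k] {X : Scheme.{u}} (f : X ⟶ Spec (CommRingCat.of k))
  [IsSeparated f] [LocallyOfFiniteType f] [QuasiCompact f]

include f in
/-- Cohomology in the degree of the dimension vanishes on a non-proper variety. -/
theorem subsingleton_HH_of_not_proper [IsIntegral X] (hnp : ¬ IsProper f) {d : ℕ}
    (hd : topologicalKrullDim X ≤ (d : WithBot ℕ∞)) (F : X.Modules) (hF : Coh.IsCoh F) :
    Subsingleton (Coh.HH X F d) := by
  cases d with
  | zero => exact absurd (Proper.isProper_of_dim_le_zero f (hd.trans_eq Nat.cast_zero)) hnp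
  | succ n => exact Main.subsingleton_HH f hnp n hd F hF

include f in
/-- If no `d`-dimensional integral closed subscheme is proper, `H^d` vanishes. -/
theorem subsingleton_HH_of_components {d : ℕ} (hd : topologicalKrullDim X ≤ (d : WithBot ℕ∞))
    (h : ∀ (Z : Scheme.{u}) (i : Z ⟶ X) [IsClosedImmersion i] [IsIntegral Z],
      topologicalKrullDim Z = (d : WithBot ℕ∞) → ¬ IsProper (i ≫ f))
    (M : X.Modules) (hM : Coh.IsCoh M) : Subsingleton (Coh.HH X M d) := by
  haveI : IsLocallyNoetherian X := LocallyOfFiniteType.isLocallyNoetherian f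
  haveI : CompactSpace X := QuasiCompact.compactSpace_of_compactSpace f
  haveI : AlgebraicGeometry.IsNoetherian X := {}
  letI : X.Over (Spec (CommRingCat.of k)) := ⟨f⟩
  refine CohDelta.Filtration.devissage (fun M => Subsingleton (Coh.HH X M d)) ⊤ ?_ ?_ ?_ ?_ M
    ⟨hM, fun _ _ => trivial⟩
  · intro M hM
    refine subsingleton_of_forall_eq 0 fun z => ?_
    have h1 : Curves.LES.mapK k (𝟙 M) d z = Curves.LES.mapK k (0 : M ⟶ M) d z := by
      rw [hM.eq_of_src (𝟙 M) 0]
    rw [Curves.LES.mapK_id, LinearMap.id_apply] at h1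
    refine h1.trans ?_
    show Sheaf.H.map ((Curves.LES.F X).map (0 : M ⟶ M)) d z = 0
    rw [Functor.map_zero]
    simp [Sheaf.H.map_apply]
  · rintro M N ⟨e⟩ hQ
    haveI := hQ
    exact (Curves.LES.isoK k e d).symm.toEquiv.subsingleton
  · intro S hS _ _ _ h1 h3
    refine subsingleton_of_forall_eq 0 fun y => ?_
    obtain ⟨z, rfl⟩ := (Curves.LES.exactK₂ k hS d y).1 (@Subsingleton.elim _ h3 _ _)
    rw [@Subsingleton.elim _ h1 z 0, map_zero]
  · intro Z i hi hZ _ I ι hι hI _
    haveI := hi
    haveI := hZ
    haveI := hι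
    haveI : I.IsQuasicoherent := hI
    haveI : IsLocallyNoetherian Z := LocallyOfFiniteType.isLocallyNoetherian i
    haveI : CompactSpace Z := QuasiCompact.compactSpace_of_compactSpace i
    haveI : AlgebraicGeometry.IsNoetherian Z := {}
    have hIc : Coh.IsCoh I :=
      CohBasics.Closure.isCoh_of_mono ι (Snapper.Twist.isCoh_structureModule Z)
    have hdZ : topologicalKrullDim Z ≤ (d : WithBot ℕ∞) :=
      i.isClosedEmbedding.isInducing.topologicalKrullDim_le.trans hd
    suffices Subsingleton (Coh.HH Z I d) from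
      (ZarCoh.Morph.affineEquiv i I d).toEquiv.subsingleton
    obtain ⟨e, he⟩ := Proper.exists_dim_eq (i ≫ f)
    rw [he, Nat.cast_le] at hdZ
    rcases hdZ.eq_or_lt with rfl | hlt
    · exact subsingleton_HH_of_not_proper (i ≫ f) (h Z i he) he.le I hIc
    · exact GenSurj.subsingleton_HH_succ he.le I hlt

end Groth.Agent.H23.Lichtenbaum.Final
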