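import Groth.Agent.S0853
import Groth.Agent.Lib.Curves.GlobalSections
import Groth.Agent.H78.Formal.Sections
import Groth.Agent.Lib.QCoh.Closure
import Groth.Agent.Lib.Modules.TensorSec
import Groth.Agent.Lib.Exchange.RelVanish
import Groth.Agent.Lib.Snapper.Twist
import Groth.Agent.Lib.Ideal.Comap

/-!
Functions on a proper scheme which lie locally in high powers of an ideal of the base.
-/

set_option autoImplicit false

universe u

open CategoryTheory CategoryTheory.Limits AlgebraicGeometry TopologicalSpace Opposite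

namespace Groth.Agent.H23.Lichtenbaum.AR

open Groth.Agent.Lib Groth.Agent.H78.Formal.Sections

/-- The structure map to global functions, as a homomorphism of commutative rings. -/
noncomputable def gl (A : Type u) [CommRing A] (Y : Scheme.{u}) [Y.Over (Spec (CommRingCat.of A))] :
    A →+* Γ(Y, (⊤ : Y.Opens)) :=
  Coh.toGlobal (Y ↘ Spec (CommRingCat.of A))

/-- Functions on a proper `A`-scheme lying locally in a high power of `I` lie globally in `I^N`. -/
theorem exists_bound (A : Type u) [CommRing A] [IsNoetherianRing A] (Y : Scheme.{u})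
    [Y.Over (Spec (CommRingCat.of A))] [IsProper (Y ↘ Spec (CommRingCat.of A))] (I : Ideal A) (N : ℕ) :
    ∃ n₀ : ℕ, ∀ n, n₀ ≤ n → ∀ s : Γ(Y, (⊤ : Y.Opens)),
      (∀ (W : Y.Opens) (_ : IsAffineOpen W),
        Y.presheaf.map (homOfLE (le_top : W ≤ ⊤)).op s ∈ sIdeal I W ^ n) →
      s ∈ Ideal.map (gl A Y) (I ^ N) := by
  haveI : IsLocallyNoetherian Y :=
    LocallyOfFiniteType.isLocallyNoetherian (Y ↘ Spec (CommRingCat.of A))
  haveI : CompactSpace Y := QuasiCompact.compactSpace_of_compactSpace (Y ↘ Spec (CommRingCat.of A))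
  let F : Y.Modules := Coh.structureModule Y
  have hF : Coh.IsCoh F := Snapper.Twist.isCoh_structureModule Y
  haveI := hF.1
  obtain ⟨c, hc⟩ := Groth.Agent.S0853.result A I Y F hF 0
  refine ⟨N + c, fun n hn s hs => ?_⟩
  let s' : Γ(F, (⊤ : Y.Opens)) := s
  have hker : (_root_.Formal.modPowπ I n F).app ⊤ s' = 0 := by
    refine Modules.TensorSec.section_ext _ _ _ fun x hx => ?_
    obtain ⟨W, hW, hxW⟩ := exists_affine x
    refine ⟨W, le_top, hxW, ?_⟩
    rw [← Modules.TensorSec.app_rs]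
    refine ((modPowπ_eq_zero_iff I n hW _).2 ?_).trans (map_zero _).symm
    have h1 : sIdeal I W ^ n ≤ Submodule.comap (LinearMap.toSpanSingleton Γ(Y, W) Γ(F, W) (1 : Γ(Y, W)))
        (sIdeal I W ^ n • (⊤ : Submodule Γ(Y, W) Γ(F, W))) := fun a ha =>
      Submodule.smul_mem_smul ha Submodule.mem_top
    have h2 := h1 (hs W hW)
    rw [Submodule.mem_comap] at h2
    exact cast (congrArg (fun z : Γ(Y, W) => (show Γ(F, W) from z) ∈ (sIdeal I W ^ n • (⊤ : Submodule Γ(Y, W) Γ(F, W)))) (mul_one _)) h2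
  obtain ⟨t, ht⟩ := QCoh.Closure.sections_exact
    (S := ShortComplex.mk (Formal2.idealPowModι I n F) (_root_.Formal.modPowπ I n F) (kernel.condition _))
    (ShortComplex.exact_of_f_is_kernel _ (kernelIsKernel (_root_.Formal.modPowπ I n F))) ⊤ s' hker
  obtain ⟨m, rfl⟩ : ∃ m, n = 0 + m := ⟨n, (zero_add n).symm⟩
  let z : Coh.HH Y (Formal2.idealPowMod I (0 + m) F) 0 := (Curves.GlobalSections.h0Equiv _).symm t
  have hz := hc 0 m (by omega) ⟨z, rfl⟩
  have hnat : ∀ {M M' : Y.Modules} (φ : M ⟶ M') (w : Coh.HH Y M 0),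
      Curves.GlobalSections.h0Equiv M' (Curves.LES.mapK A φ 0 w) = φ.app ⊤ (Curves.GlobalSections.h0Equiv M w) :=
    fun φ w => (Sheaf.H.equiv₀_naturality _ _ _).symm
  have hz2 : Curves.LES.mapK A (Formal2.idealPowModι I (0 + m) F) 0 z ∈
      (I ^ (m - (c - 0)) • (⊤ : Submodule A (Coh.HH Y F 0))) := by
    have h3 := Submodule.mem_map_of_mem (f := Curves.LES.mapK A (Formal2.idealPowModι I 0 F) 0) hz
    rw [Submodule.map_smul''] at h3
    have h4 := Submodule.smul_mono (N := Submodule.map (Curves.LES.mapK A (Formal2.idealPowModι I 0 F) 0) ⊤)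
      (le_refl (I ^ (m - (c - 0)))) (le_top (α := Submodule A (Coh.HH Y F 0))) h3
    refine cast (congrArg (· ∈ (I ^ (m - (c - 0)) • (⊤ : Submodule A (Coh.HH Y F 0)))) ?_) h4
    refine (LinearMap.congr_fun (Curves.LES.mapK_comp A (Formal2.idealPowIncl I (Nat.le_add_right 0 m) F)
      (Formal2.idealPowModι I 0 F) 0) z).symm.trans ?_
    congr 2
    exact kernel.lift_ι _ _ _
  have hval : Curves.GlobalSections.h0Equiv F (Curves.LES.mapK A (Formal2.idealPowModι I (0 + m) F) 0 z) = s' := by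
    exact ((hnat _ z).trans (congrArg _ ((Curves.GlobalSections.h0Equiv _).apply_symm_apply t))).trans ht
  letI := Curves.GlobalSections.secModule A F
  have h5 : (show (F.val.obj (op ⊤) : Type u) from s') ∈ (I ^ N • (⊤ : Submodule A (F.val.obj (op ⊤) : Type u))) := by
    have h6 := Submodule.mem_map_of_mem (f := (Curves.GlobalSections.h0Linear A F).toLinearMap) hz2
    rw [Submodule.map_smul''] at h6
    refine cast (congrArg (fun w => (show (F.val.obj (op ⊤) : Type u) from w) ∈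
      (I ^ N • (⊤ : Submodule A (F.val.obj (op ⊤) : Type u)))) hval) ?_
    exact Submodule.smul_mono (Ideal.pow_le_pow_right (by omega)) le_top h6
  refine Submodule.smul_induction_on (p := fun (w : (F.val.obj (op ⊤) : Type u)) => (show Γ(Y, (⊤ : Y.Opens)) from w) ∈
    Ideal.map (gl A Y) (I ^ N)) h5 (fun a ha w _ => ?_)
    (fun a b ha hb => add_mem ha hb)
  exact Ideal.mul_mem_right (show Γ(Y, (⊤ : Y.Opens)) from w) _ (Ideal.mem_map_of_mem (gl A Y) ha)

variable {X Y : Scheme.{u}} (q : Y ⟶ X) [IsProper q] [IsLocallyNoetherian X]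

/-- The relative form: functions on the preimage of an affine open lying locally in a high power of an
ideal sheaf lie globally in its `N`-th power. -/
theorem exists_bound_preimage (K : X.IdealSheafData) (V : X.affineOpens) (N : ℕ) :
    ∃ n₀ : ℕ, ∀ n, n₀ ≤ n → ∀ s : Γ(Y, q ⁻¹ᵁ V.1),
      (∀ (W : Y.affineOpens) (hW : W.1 ≤ q ⁻¹ᵁ V.1),
        Y.presheaf.map (homOfLE hW).op s ∈ (K.comap q ^ n).ideal W) →
      s ∈ Ideal.map (q.app V.1).hom (K.ideal V ^ N) := by
  obtain ⟨V, hV⟩ := V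
  replace hV : IsAffineOpen V := hV
  dsimp only
  haveI : IsNoetherianRing Γ(X, V) := IsLocallyNoetherian.component_noetherian ⟨V, hV⟩
  letI : (q ⁻¹ᵁ V : Scheme.{u}).Over (Spec (CommRingCat.of Γ(X, V))) :=
    ⟨Exchange.RelVanish.overA q hV⟩
  haveI : IsProper (q ∣_ V) :=
    MorphismProperty.of_isPullback (P := @IsProper) (isPullback_morphismRestrict q V).flip inferInstance
  haveI : IsProper ((q ⁻¹ᵁ V : Scheme.{u}) ↘ Spec (CommRingCat.of Γ(X, V))) :=
    inferInstanceAs (IsProper (Exchange.RelVanish.overA q hV))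
  have happ : ∀ (W : (q ⁻¹ᵁ V : Scheme.{u}).Opens) (hW : (q ⁻¹ᵁ V).ι ''ᵁ W ≤ q ⁻¹ᵁ V) (a : Γ(X, V)),
      sMap Γ(X, V) W a = q.appLE V ((q ⁻¹ᵁ V).ι ''ᵁ W) hW a := by
    intro W hW a
    have he : (Exchange.RelVanish.overA q hV) ≫ hV.fromSpec = (q ⁻¹ᵁ V).ι ≫ q := by
      rw [Category.assoc, IsAffineOpen.isoSpec_hom_fromSpec, morphismRestrict_ι]
    have e1 : W ≤ ((Exchange.RelVanish.overA q hV) ≫ hV.fromSpec) ⁻¹ᵁ V := by
      rw [he]; exact fun x hx => x.2
    have h1 : ((Exchange.RelVanish.overA q hV) ≫ hV.fromSpec).appLE V W e1 =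
        q.appLE V ((q ⁻¹ᵁ V).ι ''ᵁ W) hW := by
      simp only [he]
      rw [← Scheme.Hom.appLE_comp_appLE (q ⁻¹ᵁ V).ι q V (q ⁻¹ᵁ V) W le_rfl (fun x _ => x.2)]
      erw [Scheme.Opens.ι_appLE]
      exact Scheme.Hom.appLE_map _ _ _
    have h2 : ((Exchange.RelVanish.overA q hV) ≫ hV.fromSpec).appLE V W e1 =
        (Scheme.ΓSpecIso Γ(X, V)).inv ≫ (Exchange.RelVanish.overA q hV).appTop ≫
          (q ⁻¹ᵁ V : Scheme.{u}).presheaf.map (homOfLE (le_top : W ≤ ⊤)).op := by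
      rw [← Scheme.Hom.appLE_comp_appLE (Exchange.RelVanish.overA q hV) hV.fromSpec V ⊤ W
        hV.fromSpec_preimage_self.ge le_top, Scheme.Hom.appLE, IsAffineOpen.fromSpec_app_self, Category.assoc,
        Category.assoc]
      congr 1
    exact (ConcreteCategory.congr_hom (h1.symm.trans h2) a).symm
  obtain ⟨n₀, hn₀⟩ := exists_bound Γ(X, V) (q ⁻¹ᵁ V : Scheme.{u}) (K.ideal ⟨V, hV⟩) N
  refine ⟨n₀, fun n hn s hs => ?_⟩
  have htop : (q ⁻¹ᵁ V).ι ''ᵁ ⊤ = q ⁻¹ᵁ V := Scheme.Opens.ι_image_top _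
  let s' : Γ(q ⁻¹ᵁ V, (⊤ : (q ⁻¹ᵁ V : Scheme.{u}).Opens)) :=
    Y.presheaf.map (homOfLE htop.le).op s
  have h := hn₀ n hn s' fun W hW => by
    have hle : (q ⁻¹ᵁ V).ι ''ᵁ W ≤ q ⁻¹ᵁ V := Scheme.Opens.ι_image_le _ _
    have := hs ⟨_, hW.image_of_isOpenImmersion _⟩ hle
    rw [Scheme.IdealSheafData.ideal_pow, Pi.pow_apply,
      Lib.Ideal.Comap.ideal_comap q K ⟨V, hV⟩ ⟨_, hW.image_of_isOpenImmersion _⟩ hle] at this
    refine cast (congrArg₂ (· ∈ ·) ?_ ?_) this
    · show Y.presheaf.map _ s = Y.presheaf.map _ (Y.presheaf.map _ s)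
      rw [← ConcreteCategory.comp_apply]
      erw [← Functor.map_comp]
      rfl
    · exact congrArg (fun J => J ^ n) (congrArg (fun φ => Ideal.map φ (K.ideal ⟨V, hV⟩))
        (RingHom.ext fun a => (happ W hle a).symm))
  have h2 := Ideal.mem_map_of_mem (Y.presheaf.map (homOfLE htop.ge).op).hom h
  erw [Ideal.map_map] at h2
  refine cast (congrArg₂ (· ∈ ·) ?_ ?_) h2
  · show Y.presheaf.map _ (Y.presheaf.map _ s) = s
    rw [← ConcreteCategory.comp_apply, ← Functor.map_comp]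
    exact ConcreteCategory.congr_hom (Y.presheaf.map_id (op (q ⁻¹ᵁ V))) s
  · refine congrArg (fun φ => Ideal.map φ (K.ideal ⟨V, hV⟩ ^ N)) (RingHom.ext fun a => ?_)
    have h3 := happ ⊤ (Scheme.Opens.ι_image_le _ _) a
    show Y.presheaf.map (homOfLE htop.ge).op (gl Γ(X, V) (q ⁻¹ᵁ V : Scheme.{u}) a) = q.app V a
    have h4 : sMap Γ(X, V) (⊤ : (q ⁻¹ᵁ V : Scheme.{u}).Opens) a =
        gl Γ(X, V) (q ⁻¹ᵁ V : Scheme.{u}) a :=
      ConcreteCategory.congr_hom ((q ⁻¹ᵁ V : Scheme.{u}).presheaf.map_id (op ⊤)) _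
    rw [← h4, h3, ← ConcreteCategory.comp_apply, Scheme.Hom.appLE_map, ← Scheme.Hom.appLE_eq_app]

end Groth.Agent.H23.Lichtenbaum.AR
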