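import Groth.Agent.H23.Lichtenbaum.PHat
import Groth.Agent.Lib.FlatCI.Avoid
import Groth.Agent.Lib.PointDim.Basic
import Groth.Agent.Lib.ProjSpace.BaseChange
import Groth.Prelude.Def_CohB1
import Mathlib.Topology.KrullDimension

/-!
Choosing forms vanishing on a closed set but nowhere simultaneously on a given space.
-/

set_option autoImplicit false

universe u v

open TopologicalSpace AlgebraicGeometry

namespace Groth.Agent.H23.Lichtenbaum.Choice

variable {k : Type u} [Field k] {N : ℕ}

local notation "𝒜" => CohB1.polyGrading N k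

theorem isCompStable (x : ProjectiveSpectrum 𝒜) :
    IsCompStable x.asHomogeneousIdeal.toIdeal := fun _ hp n =>
  MvPolynomial.homogeneousComponent_mem_of_mem x.asHomogeneousIdeal.isHomogeneous hp n

theorem exists_X_notMem (x : ProjectiveSpectrum 𝒜) :
    ∃ i, (MvPolynomial.X i : MvPolynomial (Fin (N + 1)) k) ∉ x.asHomogeneousIdeal.toIdeal := by
  by_contra! h
  refine x.not_irrelevant_le fun f hf => ?_
  have hf0 : MvPolynomial.coeff 0 f = 0 := by
    rw [HomogeneousIdeal.mem_irrelevant_iff, GradedRing.proj_apply] at hf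
    erw [MvPolynomial.decomposition.decompose'_apply] at hf
    simpa [MvPolynomial.coeff_homogeneousComponent] using congrArg (MvPolynomial.coeff 0) hf
  rw [f.as_sum]
  refine Ideal.sum_mem _ fun m hm => ?_
  have hm0 : m ≠ 0 := fun e => MvPolynomial.mem_support_iff.1 hm (e ▸ hf0)
  obtain ⟨i, hi⟩ := Finsupp.support_nonempty_iff.2 hm0
  exact Ideal.mem_of_dvd _ ((MvPolynomial.X_dvd_monomial).2
    (Or.inr (Finsupp.mem_support_iff.1 hi))) (h i)

/-- `d + 1` forms of a common positive degree in a homogeneous ideal with no common zero on a space of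
dimension at most `d`. -/
theorem exists_forms {T : Type v} [TopologicalSpace T] [NoetherianSpace T] [QuasiSober T] [T0Space T]
    (π : T → ProjectiveSpectrum 𝒜) (hπ : Continuous π) (J : HomogeneousIdeal 𝒜)
    (hJ : ∀ t, ¬ J.toIdeal ≤ (π t).asHomogeneousIdeal.toIdeal) (d : ℕ)
    (hd : topologicalKrullDim T ≤ (d : WithBot ℕ∞)) :
    ∃ (e : ℕ) (f : Fin (d + 1) → MvPolynomial (Fin (N + 1)) k), 0 < e ∧ (∀ i, f i ∈ 𝒜 e) ∧
      (∀ i, f i ∈ J.toIdeal) ∧ ∀ t, ∃ i, f i ∉ (π t).asHomogeneousIdeal.toIdeal := by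
  classical
  let cl : T → IrreducibleCloseds T := fun x =>
    ⟨closure {x}, isIrreducible_singleton.closure, isClosed_closure⟩
  have key : ∀ m : ℕ, ∃ (D : Fin m → ℕ) (f : Fin m → MvPolynomial (Fin (N + 1)) k),
      (∀ i, 0 < D i) ∧ (∀ i, f i ∈ 𝒜 (D i)) ∧ (∀ i, f i ∈ J.toIdeal) ∧
      ∀ x : T, (∀ i, f i ∈ (π x).asHomogeneousIdeal.toIdeal) → (m : ℕ∞) ≤ Order.coheight (cl x) := by
    intro m
    induction m with
    | zero => exact ⟨Fin.elim0, Fin.elim0, fun i => i.elim0, fun i => i.elim0, fun i => i.elim0, fun x _ => by simp⟩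
    | succ m ih =>
      obtain ⟨D, f, hD, hf, hfJ, hcov⟩ := ih
      let Z : Set T := π ⁻¹' ProjectiveSpectrum.zeroLocus 𝒜 (Set.range f)
      have hZ : IsClosed Z := (ProjectiveSpectrum.isClosed_zeroLocus _ _).preimage hπ
      obtain ⟨S, hfin, hcl, hirr, hTS⟩ := NoetherianSpace.exists_finite_set_isClosed_irreducible hZ
      haveI := hfin.fintype
      let g : S → T := fun t => (hirr t.1 t.2).genericPoint
      let P : S → Ideal (MvPolynomial (Fin (N + 1)) k) := fun t => (π (g t)).asHomogeneousIdeal.toIdeal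
      obtain ⟨e, he, a, ha, haJ, hav⟩ := Groth.Agent.Lib.FlatCI.Avoid.exists_avoid 𝒜
        J.isHomogeneous (Finset.univ.image P)
        (fun Q hQ => by obtain ⟨t, -, rfl⟩ := Finset.mem_image.1 hQ; exact (π (g t)).isPrime)
        (fun Q hQ => by obtain ⟨t, -, rfl⟩ := Finset.mem_image.1 hQ; exact (π (g t)).asHomogeneousIdeal.isHomogeneous)
        (fun Q hQ => by
          obtain ⟨t, -, rfl⟩ := Finset.mem_image.1 hQ
          obtain ⟨i, hi⟩ := exists_X_notMem (π (g t))
          exact ⟨_, MvPolynomial.isHomogeneous_X _ i, hi⟩)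
        (fun Q hQ => by obtain ⟨t, -, rfl⟩ := Finset.mem_image.1 hQ; exact hJ (g t))
      refine ⟨Fin.snoc D e, Fin.snoc f a, Fin.lastCases (by simpa using he) (fun i => by simpa using hD i),
        Fin.lastCases (by simpa using ha) (fun i => by simpa using hf i),
        Fin.lastCases (by simpa using haJ) (fun i => by simpa using hfJ i), fun x hx => ?_⟩
      have hxf : ∀ i, f i ∈ (π x).asHomogeneousIdeal.toIdeal := fun i => by simpa using hx i.castSucc
      have hxa : a ∈ (π x).asHomogeneousIdeal.toIdeal := by simpa using hx (Fin.last m)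
      obtain ⟨t, ht, hxt⟩ : x ∈ ⋃₀ S := hTS ▸ show x ∈ Z by
        rintro _ ⟨i, rfl⟩; exact hxf i
      have hg := (hirr t ht).isGenericPoint_genericPoint_closure
      rw [(hcl t ht).closure_eq] at hg
      have hgZ : g ⟨t, ht⟩ ∈ Z := hTS ▸ Set.mem_sUnion_of_mem hg.mem ht
      have hga : a ∉ (π (g ⟨t, ht⟩)).asHomogeneousIdeal.toIdeal :=
        hav _ (Finset.mem_image.2 ⟨⟨t, ht⟩, Finset.mem_univ _, rfl⟩)
      have hlt : cl x < cl (g ⟨t, ht⟩) := by
        refine lt_of_le_of_ne ((hg.specializes hxt).closure_subset) fun heq => hga ?_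
        have h1 : closure ({x} : Set T) = closure {g ⟨t, ht⟩} :=
          congrArg (fun c : IrreducibleCloseds T => (c : Set T)) heq
        rw [← ((inseparable_iff_closure_eq).2 h1).eq]
        exact hxa
      have h3 := hcov (g ⟨t, ht⟩) fun i => hgZ ⟨i, rfl⟩
      push_cast
      exact le_trans (by gcongr) (Order.coheight_add_one_le hlt)
  obtain ⟨D, f, hD, hf, hfJ, hcov⟩ := key (d + 1)
  let E := ∏ i, D i
  have hdvd : ∀ i, D i ∣ E := fun i => Finset.dvd_prod_of_mem D (Finset.mem_univ i)
  refine ⟨E, fun i => f i ^ (E / D i), Finset.prod_pos fun i _ => hD i, fun i => ?_, fun i => ?_, fun t => ?_⟩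
  · have h := (MvPolynomial.mem_homogeneousSubmodule _ _).1 (hf i) |>.pow (E / D i)
    rw [Nat.mul_div_cancel' (hdvd i)] at h
    exact h
  · exact Ideal.pow_mem_of_mem _ (hfJ i) _
      (Nat.div_pos (Nat.le_of_dvd (Finset.prod_pos fun i _ => hD i) (hdvd i)) (hD i))
  · by_contra! h
    have h1 := hcov t fun i => (π t).isPrime.mem_of_pow_mem _ (h i)
    have h2 : ((Order.coheight (cl t) : ℕ∞) : WithBot ℕ∞) ≤ ((d : ℕ∞) : WithBot ℕ∞) :=
      (Order.coheight_le_krullDim (cl t)).trans hd
    have h3 : d + 1 ≤ d := by exact_mod_cast h1.trans (WithBot.coe_le_coe.1 h2)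
    omega

open Groth.Agent.Lib.PointDim in
/-- A point of an immersed subscheme of projective space has closure of the same dimension. -/
theorem topologicalKrullDim_closure_image {X : Scheme.{u}} (f : X ⟶ Spec (CommRingCat.of k))
    [LocallyOfFiniteType f] (j : X ⟶ CohB1.ProjSpace N k) [IsImmersion j]
    (hj : CategoryTheory.CategoryStruct.comp j (CohB1.ProjSpace.toSpec N k) = f) (x : X) :
    topologicalKrullDim ↥(closure ({j x} : Set ↥(CohB1.ProjSpace N k))) = topologicalKrullDim ↥(closure ({x} : Set X)) := by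
  haveI : LocallyOfFiniteType (CohB1.ProjSpace.toSpec N k) := inferInstance
  rw [Basic.topologicalKrullDim_closure_singleton (CohB1.ProjSpace.toSpec N k) (j x),
    Basic.topologicalKrullDim_closure_singleton f x]
  congr 1
  simp only [Basic.natTdeg]
  refine congrArg _ (Basic.tdeg_comp_of_finite j (CohB1.ProjSpace.toSpec N k) f hj x ?_).symm
  letI : Algebra ((CohB1.ProjSpace N k).residueField (j x)) (X.residueField x) :=
    (j.residueFieldMap x).hom.toAlgebra
  have hb : Function.Surjective (algebraMap ((CohB1.ProjSpace N k).residueField (j x)) (X.residueField x)) :=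
    Ideal.Quotient.mk_surjective.comp (j.stalkMap_surjective x) |> fun h => by
      exact Function.Surjective.of_comp (g := IsLocalRing.residue _) h
  have : Algebra.IsIntegral ((CohB1.ProjSpace N k).residueField (j x)) (X.residueField x) :=
    Algebra.isIntegral_of_surjective hb
  exact Algebra.IsIntegral.isAlgebraic

end Groth.Agent.H23.Lichtenbaum.Choice
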