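import Mathlib.AlgebraicGeometry.ProjectiveSpectrum.Basic
import Mathlib.AlgebraicGeometry.FunctionField

/-!
Regular functions on a scheme mapped to `Proj`, given by fractions of forms of equal degree.
-/

set_option autoImplicit false

universe u

open CategoryTheory AlgebraicGeometry TopologicalSpace Opposite HomogeneousLocalization

namespace Groth.Agent.H23.Lichtenbaum.Fractions

variable {σ : Type*} {A : Type u} [CommRing A] [SetLike σ A] [AddSubgroupClass σ A] (𝒜 : ℕ → σ)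
  [GradedRing 𝒜] {X : Scheme.{u}} (j : X ⟶ Proj 𝒜)

instance isPrime_point (y : Proj 𝒜) : y.asHomogeneousIdeal.toIdeal.IsPrime :=
  ProjectiveSpectrum.isPrime y

/-- The fraction `p/q` in the homogeneous localization at a point where `q` does not vanish. -/
def stalkFrac (y : Proj 𝒜) {D : ℕ} (p q : A) (hp : p ∈ 𝒜 D) (hq : q ∈ 𝒜 D)
    (hy : q ∉ y.asHomogeneousIdeal.toIdeal) : HomogeneousLocalization.AtPrime 𝒜 y.asHomogeneousIdeal.toIdeal :=
  HomogeneousLocalization.mk ⟨D, ⟨p, hp⟩, ⟨q, hq⟩, hy⟩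

theorem val_stalkFrac (y : Proj 𝒜) {D : ℕ} (p q : A) (hp : p ∈ 𝒜 D) (hq : q ∈ 𝒜 D)
    (hy : q ∉ y.asHomogeneousIdeal.toIdeal) :
    (stalkFrac 𝒜 y p q hp hq hy).val = Localization.mk p ⟨q, hy⟩ :=
  rfl

/-- The map to the stalk of `X`. -/
noncomputable def toStalk (x : X) :
    HomogeneousLocalization.AtPrime 𝒜 (j x).asHomogeneousIdeal.toIdeal →+* X.presheaf.stalk x :=
  ((Proj.stalkIso 𝒜 (j x)).inv ≫ j.stalkMap x).hom

theorem isUnit_toStalk (x : X) {D : ℕ} (p q : A) (hp : p ∈ 𝒜 D) (hq : q ∈ 𝒜 D)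
    (hy : q ∉ (j x).asHomogeneousIdeal.toIdeal) :
    IsUnit (toStalk 𝒜 j x (stalkFrac 𝒜 (j x) p q hp hq hy)) ↔
      p ∉ (j x).asHomogeneousIdeal.toIdeal := by
  haveI : IsLocalHom (Proj.stalkIso 𝒜 (j x)).inv.hom := isLocalHom_of_isIso _
  haveI : IsLocalHom (toStalk 𝒜 j x) := by
    show IsLocalHom ((j.stalkMap x).hom.comp (Proj.stalkIso 𝒜 (j x)).inv.hom)
    infer_instance
  rw [isUnit_map_iff (toStalk 𝒜 j x), ← HomogeneousLocalization.isUnit_iff_isUnit_val,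
    val_stalkFrac, Localization.mk_eq_mk', IsLocalization.AtPrime.isUnit_mk'_iff]
  rfl

/-- The function `p/q` on an open where `q` does not vanish. -/
noncomputable def frac {D : ℕ} (p q : A) (hp : p ∈ 𝒜 D) (hq : q ∈ 𝒜 D) {W : X.Opens}
    (h : W ≤ j ⁻¹ᵁ Proj.basicOpen 𝒜 q) : Γ(X, W) :=
  (j.appLE (Proj.basicOpen 𝒜 q) W h).hom
    ((Proj.awayToSection 𝒜 q).hom
      (HomogeneousLocalization.Away.mk 𝒜 hq 1 p (by rw [one_smul]; exact hp)))

theorem germ_frac {D : ℕ} (p q : A) (hp : p ∈ 𝒜 D) (hq : q ∈ 𝒜 D) {W : X.Opens}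
    (h : W ≤ j ⁻¹ᵁ Proj.basicOpen 𝒜 q) (x : X) (hx : x ∈ W) :
    X.presheaf.germ W x hx (frac 𝒜 j p q hp hq h) =
      toStalk 𝒜 j x (stalkFrac 𝒜 (j x) p q hp hq (h hx)) := by
  show (j.appLE _ W h ≫ X.presheaf.germ W x hx) _ = _
  rw [Scheme.Hom.appLE, Category.assoc, X.presheaf.germ_res (homOfLE h)]
  refine (ConcreteCategory.congr_hom (Scheme.Hom.germ_stalkMap j _ x (h hx)).symm _).trans ?_
  show (j.stalkMap x).hom _ = (j.stalkMap x).hom ((Proj.stalkIso 𝒜 (j x)).inv.hom _)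
  refine congrArg _ ?_
  refine (ConcreteCategory.congr_hom
    (ProjectiveSpectrum.Proj.awayToSection_germ 𝒜 q (j x) (h hx)) _).trans ?_
  show (Proj.stalkIso 𝒜 (j x)).inv.hom _ = _
  refine congrArg _ ?_
  apply HomogeneousLocalization.val_injective
  refine Eq.trans ?_ (val_stalkFrac 𝒜 (j x) p q hp hq (h hx)).symm
  show Localization.mk p (⟨q ^ 1, _⟩ : (j x).asHomogeneousIdeal.toIdeal.primeCompl) = _
  congr 1
  exact Subtype.ext (pow_one q)

theorem basicOpen_frac {D : ℕ} (p q : A) (hp : p ∈ 𝒜 D) (hq : q ∈ 𝒜 D) {W : X.Opens}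
    (h : W ≤ j ⁻¹ᵁ Proj.basicOpen 𝒜 q) :
    X.basicOpen (frac 𝒜 j p q hp hq h) = W ⊓ j ⁻¹ᵁ Proj.basicOpen 𝒜 p := by
  ext x
  refine ⟨fun hx => ?_, fun hx => ?_⟩
  · have hxW : x ∈ W := X.basicOpen_le _ hx
    have hu := (Scheme.mem_basicOpen X (frac 𝒜 j p q hp hq h) x hxW).1 hx
    rw [germ_frac] at hu
    exact ⟨hxW, (isUnit_toStalk 𝒜 j x p q hp hq (h hxW)).1 hu⟩
  · refine (Scheme.mem_basicOpen X _ x hx.1).2 ?_
    rw [germ_frac]
    exact (isUnit_toStalk 𝒜 j x p q hp hq (h hx.1)).2 hx.2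

/-- A fraction with numerator in the ideal of the image of a point with field stalk vanishes there. -/
theorem toStalk_eq_zero (x : X) (hx : IsField (X.presheaf.stalk x)) {D : ℕ} (p q : A) (hp : p ∈ 𝒜 D)
    (hq : q ∈ 𝒜 D) (hy : q ∉ (j x).asHomogeneousIdeal.toIdeal)
    (hpy : p ∈ (j x).asHomogeneousIdeal.toIdeal) :
    toStalk 𝒜 j x (stalkFrac 𝒜 (j x) p q hp hq hy) = 0 := by
  letI := hx.toField
  by_contra h
  exact (isUnit_toStalk 𝒜 j x p q hp hq hy).1 (isUnit_iff_ne_zero.2 h) hpy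

end Groth.Agent.H23.Lichtenbaum.Fractions
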