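import Groth.Agent.Lib.Cyc.DegK.SuppVanish
import Groth.Agent.Lib.Curves.LES
import Groth.Prelude.Def_Coh

/-!
Top cohomology does not see generic isomorphisms: right exactness and generic surjections.
-/

set_option autoImplicit false

universe u

open CategoryTheory CategoryTheory.Limits AlgebraicGeometry TopologicalSpace Opposite

namespace Groth.Agent.H23.Lichtenbaum.GenSurj

open Groth.Agent.Lib

/-- A proper closed subset of an irreducible space of dimension at most `n + 1` has dimension at
most `n`. -/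
theorem topologicalKrullDim_le {T : Type u} [TopologicalSpace T] [IrreducibleSpace T] {Z : Set T}
    (hZ : IsClosed Z) (hne : Z ≠ Set.univ) {n : ℕ}
    (hd : topologicalKrullDim T ≤ ((n + 1 : ℕ) : WithBot ℕ∞)) :
    topologicalKrullDim Z ≤ ((n : ℕ) : WithBot ℕ∞) := by
  refine iSup_le fun p => ?_
  let top : IrreducibleCloseds T :=
    ⟨Set.univ, IrreducibleSpace.isIrreducible_univ T, isClosed_univ⟩
  let q := p.map (IrreducibleCloseds.map (Subtype.val : Z → T) continuous_subtype_val)
    (IrreducibleCloseds.map_strictMono_of_isInducing Topology.IsInducing.subtypeVal)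
  have hlast : q.last < top := by
    refine lt_of_le_of_ne (fun x _ => trivial) fun h => hne (Set.eq_univ_of_univ_subset ?_)
    have h1 : (q.last : Set T) = Set.univ := congrArg (fun c : IrreducibleCloseds T => (c : Set T)) h
    rw [← h1]
    refine closure_minimal ?_ hZ
    rintro _ ⟨z, -, rfl⟩
    exact z.2
  have h2 := (Order.LTSeries.length_le_krullDim (q.snoc top hlast)).trans hd
  have h3 : (q.snoc top hlast).length = p.length + 1 := rfl
  rw [h3] at h2
  have h4 : p.length + 1 ≤ n + 1 := by exact_mod_cast h2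
  exact_mod_cast (Nat.le_of_succ_le_succ h4)

variable {X : Scheme.{u}}

/-- The restriction of a zero module has zero stalks. -/
theorem subsingleton_stalk_of_isZero_restrict {M : X.Modules} {U : X.Opens}
    (h : IsZero ((Scheme.Modules.restrictFunctor U.ι).obj M)) {x : X} (hx : x ∈ U) :
    Subsingleton (M.presheaf.stalk x) := by
  refine subsingleton_of_forall_eq 0 fun v => ?_
  obtain ⟨W, hxW, s, rfl⟩ := M.presheaf.exists_germ_eq v
  let W' : (U : Scheme.{u}).Opens := U.ι ⁻¹ᵁ W
  have hle : U.ι ''ᵁ W' ≤ W := by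
    rintro _ ⟨z, hz, rfl⟩
    exact hz
  have hxW' : x ∈ U.ι ''ᵁ W' := ⟨⟨x, hx⟩, hxW, rfl⟩
  rw [← M.presheaf.germ_res_apply (homOfLE hle) x hxW' s]
  refine (congrArg _ ?_).trans (map_zero _)
  haveI hs : Subsingleton Γ((Scheme.Modules.restrictFunctor U.ι).obj M, W') :=
    subsingleton_of_forall_eq 0 fun t => congr(($(h.eq_of_src (𝟙 _) 0)).app W' t)
  exact (M.restrictAppIso U.ι W').symm.addCommGroupIsoToAddEquiv.injective
    (@Subsingleton.elim _ hs _ _)

variable {n : ℕ}

/-- `H^(n+1)` of modules supported on a proper closed subset vanishes. -/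
theorem subsingleton_HH_of_support [IrreducibleSpace X] [NoetherianSpace X]
    (hd : topologicalKrullDim X ≤ ((n + 1 : ℕ) : WithBot ℕ∞)) (M : X.Modules) {U : X.Opens}
    (hU : (U : Set X).Nonempty) (hM : ∀ x ∈ U, Subsingleton (M.presheaf.stalk x)) :
    Subsingleton (Coh.HH X M (n + 1)) := by
  have hdZ := topologicalKrullDim_le (Z := (U : Set X)ᶜ) U.2.isClosed_compl
    (fun h => hU.ne_empty (Set.compl_univ_iff.1 h)) hd
  exact Cyc.DegK.SuppVanish.H_subsingleton (X := X.carrier) (n + 1) hd (Coh.toAb M) U.2.isClosed_compl n hdZ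
    (fun x hx => hM x (Set.notMem_compl_iff.1 hx)) (n + 1) n.lt_succ_self

/-- Above the dimension cohomology vanishes. -/
theorem subsingleton_HH_succ [NoetherianSpace X] {m : ℕ}
    (hd : topologicalKrullDim X ≤ (m : WithBot ℕ∞)) (M : X.Modules) {p : ℕ} (hp : m < p) :
    Subsingleton (Coh.HH X M p) :=
  Cyc.DegK.SuppVanish.H_subsingleton (X := X.carrier) m hd (Coh.toAb M) isClosed_univ m
    ((topologicalKrullDim_subspace_le X Set.univ).trans hd) (fun _ hx => absurd trivial hx) p hp

variable (k : Type u) [Field k] [X.Over (Spec (CommRingCat.of k))]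

include k in
/-- If `φ : G ⟶ F` is surjective on a nonempty open and `H^(n+1)(G) = 0`, then `H^(n+1)(F) = 0`. -/
theorem subsingleton_of_generic_epi [IrreducibleSpace X] [NoetherianSpace X]
    (hd : topologicalKrullDim X ≤ ((n + 1 : ℕ) : WithBot ℕ∞)) {G F : X.Modules} (φ : G ⟶ F)
    {U : X.Opens} (hU : (U : Set X).Nonempty) (hφ : Epi ((Scheme.Modules.restrictFunctor U.ι).map φ))
    (hG : Subsingleton (Coh.HH X G (n + 1))) : Subsingleton (Coh.HH X F (n + 1)) := by
  let S₁ := ShortComplex.mk (Abelian.image.ι φ) (cokernel.π φ) (kernel.condition _)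
  have hS₁ : S₁.ShortExact :=
    { exact := S₁.exact_of_f_is_kernel (kernelIsKernel _) }
  let S₂ := ShortComplex.mk (kernel.ι φ) (Abelian.factorThruImage φ)
    (by rw [← cancel_mono (Abelian.image.ι φ), Category.assoc, Abelian.image.fac, kernel.condition, zero_comp])
  haveI : Mono S₂.f := inferInstanceAs (Mono (kernel.ι φ))
  haveI : Epi S₂.g := inferInstanceAs (Epi (Abelian.factorThruImage φ))
  have hS₂ : S₂.ShortExact :=
    { exact := S₂.exact_of_f_is_kernel (KernelFork.IsLimit.ofι (kernel.ι φ) _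
        (fun {W} g hg => kernel.lift φ g (by
          rw [← Abelian.image.fac φ, ← Category.assoc]
          exact (congrArg (· ≫ Abelian.image.ι φ) hg).trans zero_comp))
        (fun g hg => kernel.lift_ι _ _ _)
        (fun g hg l hl => by rw [← cancel_mono (kernel.ι φ), kernel.lift_ι]; exact hl)) }
  have hQ : Subsingleton (Coh.HH X (cokernel φ) (n + 1)) := by
    refine subsingleton_HH_of_support hd _ hU fun x hx => subsingleton_stalk_of_isZero_restrict ?_ hx
    exact (isZero_cokernel_of_epi ((Scheme.Modules.restrictFunctor U.ι).map φ)).of_iso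
      (PreservesCokernel.iso (Scheme.Modules.restrictFunctor U.ι) φ)
  have hI : Subsingleton (Coh.HH X (Abelian.image φ) (n + 1)) := by
    refine subsingleton_of_forall_eq 0 fun y => ?_
    obtain ⟨z, rfl⟩ := (Curves.LES.exactK₃ k hS₂ (n + 1) (n + 1 + 1) rfl y).1
      (@Subsingleton.elim _ (subsingleton_HH_succ hd S₂.X₁ (n + 1).lt_succ_self) _ _)
    rw [@Subsingleton.elim _ hG z 0, map_zero]
  refine subsingleton_of_forall_eq 0 fun y => ?_
  obtain ⟨z, rfl⟩ := (Curves.LES.exactK₂ k hS₁ (n + 1) y).1 (@Subsingleton.elim _ hQ _ _)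
  rw [@Subsingleton.elim _ hI z 0, map_zero]

end Groth.Agent.H23.Lichtenbaum.GenSurj
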