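import Groth.Agent.H23.Lichtenbaum.PHat
import Groth.Agent.H24.PowerSeries
import Groth.Agent.Lib.LCFin.HLVT2
import Groth.Agent.Lib.Koszul.Stable.LC
import Groth.Agent.Lib.Koszul.Stable.Top
import Groth.Agent.Lib.Adic.Complete
import Mathlib.RingTheory.Ideal.KrullsHeightTheorem
import Mathlib.RingTheory.KrullDimension.Zero

/-!
The graded form of Hartshorne–Lichtenbaum vanishing: for a projective variety of dimension `d` and
`d + 1` forms with a common zero, a power of the product lies in the ideal of higher powers.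
-/

set_option autoImplicit false

universe u

namespace Groth.Agent.H23.Lichtenbaum

open Groth.Agent.Lib IsLocalRing

theorem list_prod_map_pow {M : Type*} [CommMonoid M] (l : List M) (n : ℕ) :
    (l.map (· ^ n)).prod = l.prod ^ n := by
  induction l with
  | nil => simp
  | cons a l ih => simp [ih, mul_pow]

/-- If the top local cohomology of `T` along `d + 1` elements vanishes, a power of their product lies
in the ideal of higher powers. -/
theorem exists_pow_mem_of_subsingleton {T : Type u} [CommRing T] [IsNoetherianRing T] {n : ℕ}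
    (f : Fin n → T) (h : Subsingleton (LocCoh.H (Ideal.span (Set.range f)) n T)) (N : ℕ) :
    ∃ M, (∏ i, f i) ^ M ∈ Ideal.span (Set.range fun i => f i ^ (N + M)) := by
  classical
  let fs := List.ofFn f
  have hidl : Koszul.Stable.LC.idl fs = Ideal.span (Set.range f) := by
    simp [Koszul.Stable.LC.idl, fs, List.mem_ofFn, Set.range]
  obtain ⟨e⟩ := Koszul.Stable.LC.nonempty_equiv fs n T
  rw [hidl] at e
  haveI : Subsingleton (CohIII.koszulHLim fs (ModuleCat.of T T) n) := e.symm.toEquiv.subsingleton
  have hi : ((n : ℤ) - fs.length) = 0 := by simp [fs]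
  have hlen : ∀ m, ((n : ℤ) - (fs.map (· ^ m)).length) = 0 := fun m => by simp [fs]
  have hpush : Module.DirectLimit.of T ℕ (fun m => (CohIII.koszulHPow fs (ModuleCat.of T T) n m : Type u))
      (fun a b h => (HomologicalComplex.homologyMap (CohIII.koszulTrans (ModuleCat.of T T) a b h fs)
        ((n : ℤ) - fs.length)).hom) N
      (Koszul.Stable.Top.topClsAt (ModuleCat.of T T) (fs.map (· ^ N)) _ hi (1 : T)) = 0 :=
    @Subsingleton.elim (CohIII.koszulHLim fs (ModuleCat.of T T) n) _ _ _
  haveI : DirectedSystem (fun m => (CohIII.koszulHPow fs (ModuleCat.of T T) n m : Type u))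
      (fun a b h => ⇑(HomologicalComplex.homologyMap (CohIII.koszulTrans (ModuleCat.of T T) a b h fs)
        ((n : ℤ) - fs.length)).hom) := Koszul.Stable.KLim.directedSystem fs (ModuleCat.of T T) n
  obtain ⟨M, hNM, hM⟩ := Module.DirectLimit.of.zero_exact hpush
  rw [Koszul.Stable.Top.topClsAt_trans] at hM
  rw [Koszul.Stable.Top.topClsAt_eq_zero_iff] at hM
  refine ⟨M - N, ?_⟩
  have hMN : N + (M - N) = M := by omega
  rw [hMN]
  simp only [smul_eq_mul, mul_one, Ideal.mul_top, list_prod_map_pow] at hM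
  have hspan : Ideal.ofList (fs.map (· ^ M)) = Ideal.span (Set.range fun i => f i ^ M) := by
    simp [Ideal.ofList, fs, List.mem_map, List.mem_ofFn, Set.range]
  rw [hspan] at hM
  simpa [fs, List.prod_ofFn] using hM

variable {k : Type u} [Field k] {V : ℕ}

open MvPolynomial

theorem exists_pow_mem_sup {d e : ℕ} (P Q : Ideal (MvPolynomial (Fin V) k)) [P.IsPrime] [Q.IsPrime]
    (hP : IsCompStable P) (hQ : IsCompStable Q) (hPQ : P ≤ Q)
    (hQX : ∃ j, (X j : MvPolynomial (Fin V) k) ∉ Q)
    (f : Fin (d + 1) → MvPolynomial (Fin V) k) (he : ∀ i, (f i).IsHomogeneous e) (hfQ : ∀ i, f i ∈ Q)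
    (g : Fin (d + 1) → MvPolynomial (Fin V) k)
    (hg0 : ∀ i, constantCoeff (g i) = 0)
    (hg : ∀ j, ∃ c : ℕ, (X j : MvPolynomial (Fin V) k) ^ c ∈ P ⊔ Ideal.span (Set.range g)) (N : ℕ) :
    ∃ (M : ℕ) (a : Fin (d + 1) → MvPolynomial (Fin V) k),
      (∀ i, (a i).IsHomogeneous (e * (d + 1) * M - e * (N + M))) ∧
      (∏ i, f i) ^ M - ∑ i, a i * f i ^ (N + M) ∈ P := by
  classical
  let R := MvPowerSeries (Fin V) k
  let I : Ideal R := pHat P
  haveI : I.IsPrime := isPrime_pHat hP
  haveI : (pHat Q).IsPrime := isPrime_pHat hQ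
  haveI : IsNoetherianRing R := (Cohen.PSRegular.mvPowerSeries k V).1.toIsNoetherian
  let T := R ⧸ I
  haveI : Nontrivial T := Ideal.Quotient.nontrivial_iff.2 (Ideal.IsPrime.ne_top ‹_›)
  haveI : IsLocalRing T := IsLocalRing.of_surjective' (Ideal.Quotient.mk I) Ideal.Quotient.mk_surjective
  haveI : IsAdicComplete (maximalIdeal R) R := Groth.Agent.H24.PowerSeries.isAdicComplete k (Fin V)
  haveI : IsAdicComplete (maximalIdeal T) T := by
    rw [← IsLocalRing.map_maximalIdeal_of_surjective (Ideal.Quotient.mk I) Ideal.Quotient.mk_surjective]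
    exact Adic.Complete.isAdicComplete_quotient I
  let φ : MvPolynomial (Fin V) k →+* T := (Ideal.Quotient.mk I).comp MvPolynomial.coeToMvPowerSeries.ringHom
  have hφP : ∀ p ∈ P, φ p = 0 := fun p hp => Ideal.Quotient.eq_zero_iff_mem.2 ((coe_mem_pHat_iff hP).2 hp)
  have hmax : maximalIdeal T = Ideal.span (Set.range fun j => φ (X j)) := by
    rw [← IsLocalRing.map_maximalIdeal_of_surjective (Ideal.Quotient.mk I) Ideal.Quotient.mk_surjective,
      Groth.Agent.H24.PowerSeries.maximalIdeal_eq, Ideal.map_span, ← Set.range_comp]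
    congr 1
    ext x
    simp only [Set.mem_range, Function.comp_apply, φ, RingHom.comp_apply]
    refine exists_congr fun y => ?_
    rw [show MvPolynomial.coeToMvPowerSeries.ringHom (X y : MvPolynomial (Fin V) k) = ((X y : MvPolynomial (Fin V) k) : MvPowerSeries (Fin V) k) from rfl, MvPolynomial.coe_X]
  have hφmem : ∀ p : MvPolynomial (Fin V) k, constantCoeff p = 0 → φ p ∈ maximalIdeal T := fun p hp => by
    rw [← IsLocalRing.map_maximalIdeal_of_surjective (Ideal.Quotient.mk I) Ideal.Quotient.mk_surjective]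
    refine Ideal.mem_map_of_mem _ ((mem_maximalIdeal _).2 ?_)
    rw [mem_nonunits_iff, MvPowerSeries.isUnit_iff_constantCoeff, isUnit_iff_ne_zero, not_not]
    rw [← MvPowerSeries.coeff_zero_eq_constantCoeff_apply]
    exact (MvPolynomial.coeff_coe p 0).trans hp
  -- the dimension bound
  have hdimle : ringKrullDim T ≤ ((d + 1 : ℕ) : WithBot ℕ∞) := by
    let s : Finset T := Finset.univ.image fun i => φ (g i)
    have hs : (s : Set T) = Set.range fun i => φ (g i) := by simp [s]
    refine (ringKrullDim_le_ringKrullDim_quotient_add_card s ?_).trans ?_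
    · rw [IsLocalRing.ringJacobson_eq_maximalIdeal, hs]
      rintro _ ⟨i, rfl⟩
      exact hφmem _ (hg0 i)
    · have h0 : ringKrullDim (T ⧸ Ideal.span (s : Set T)) ≤ 0 := by
        haveI : Ring.KrullDimLE 0 (T ⧸ Ideal.span (s : Set T)) := by
          rw [Ring.krullDimLE_zero_iff]
          intro p hp
          haveI : Nontrivial (T ⧸ Ideal.span (s : Set T)) := ⟨⟨0, 1, fun h => hp.ne_top
            ((Ideal.eq_top_iff_one p).2 (h ▸ p.zero_mem))⟩⟩
          haveI := IsLocalRing.of_surjective' (Ideal.Quotient.mk (Ideal.span (s : Set T))) Ideal.Quotient.mk_surjective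
          have : p = maximalIdeal _ := by
            refine le_antisymm (le_maximalIdeal hp.ne_top) ?_
            have heq := IsLocalRing.map_maximalIdeal_of_surjective (R := T) (S := T ⧸ Ideal.span (s : Set T))
              (Ideal.Quotient.mk (Ideal.span (s : Set T))) Ideal.Quotient.mk_surjective
            rw [← heq, hmax, Ideal.map_span, Ideal.span_le]
            rintro _ ⟨_, ⟨j, rfl⟩, rfl⟩
            obtain ⟨c, hc⟩ := hg j
            obtain ⟨x, hx, y, hy, hxy⟩ := Submodule.mem_sup.1 hc
            refine hp.mem_of_pow_mem c ?_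
            have hys : φ y ∈ Ideal.span (s : Set T) := by
              have := Ideal.mem_map_of_mem φ hy
              rwa [Ideal.map_span, ← Set.range_comp, ← show (s : Set T) = Set.range (φ ∘ g) from hs] at this
            rw [← map_pow, ← map_pow, ← hxy, map_add, hφP x hx, zero_add,
              Ideal.Quotient.eq_zero_iff_mem.2 hys]
            exact p.zero_mem
          rw [this]
          exact IsLocalRing.maximalIdeal.isMaximal _
        exact Ring.krullDimLE_iff.1 inferInstance
      calc _ ≤ (0 : WithBot ℕ∞) + (s.card : WithBot ℕ∞) := by gcongr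
        _ ≤ _ := by
          rw [zero_add]
          exact_mod_cast Finset.card_image_le.trans (by simp)
  -- vanishing
  let J : Ideal T := Ideal.span (Set.range fun i => φ (f i))
  have hJ : 0 < ringKrullDim (T ⧸ J) := by
    obtain ⟨j, hj⟩ := hQX
    let q : Ideal R := pHat Q
    have hfq : ∀ i, MvPolynomial.coeToMvPowerSeries.ringHom (f i) ∈ q := fun i => (coe_mem_pHat_iff hQ).2 (hfQ i)
    let qT : Ideal T := q.map (Ideal.Quotient.mk I)
    haveI : qT.IsPrime := Ideal.map_isPrime_of_surjective Ideal.Quotient.mk_surjective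
      (by rw [Ideal.mk_ker]; exact pHat_mono hPQ)
    have hJq : J ≤ qT := Ideal.span_le.2 (by rintro _ ⟨i, rfl⟩; exact Ideal.mem_map_of_mem _ (hfq i))
    have hqm : qT < maximalIdeal T := by
      refine lt_of_le_of_ne (le_maximalIdeal (Ideal.IsPrime.ne_top ‹_›)) fun h => hj ?_
      have h1 : φ (X j) ∈ qT := h ▸ hmax ▸ Ideal.subset_span ⟨j, rfl⟩
      rw [Ideal.mem_map_iff_of_surjective _ Ideal.Quotient.mk_surjective] at h1
      obtain ⟨y, hy, hyx⟩ := h1
      have : MvPolynomial.coeToMvPowerSeries.ringHom (X j : MvPolynomial (Fin V) k) ∈ q := by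
        have h2 : MvPolynomial.coeToMvPowerSeries.ringHom (X j : MvPolynomial (Fin V) k) - y ∈ q :=
          pHat_mono hPQ (Ideal.Quotient.eq.1 hyx.symm)
        simpa using q.add_mem h2 hy
      exact (coe_mem_pHat_iff hQ).1 this
    let x₀ : PrimeSpectrum (T ⧸ J) := ⟨qT.map (Ideal.Quotient.mk J),
      Ideal.map_isPrime_of_surjective Ideal.Quotient.mk_surjective (by rw [Ideal.mk_ker]; exact hJq)⟩
    let x₁ : PrimeSpectrum (T ⧸ J) := ⟨(maximalIdeal T).map (Ideal.Quotient.mk J),
      Ideal.map_isPrime_of_surjective Ideal.Quotient.mk_surjective (by rw [Ideal.mk_ker]; exact hJq.trans hqm.le)⟩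
    have hlt : x₀ < x₁ := by
      refine lt_of_le_of_ne (Ideal.map_mono hqm.le : x₀.asIdeal ≤ x₁.asIdeal) fun h => hqm.ne ?_
      have := congrArg (Ideal.comap (Ideal.Quotient.mk J)) (congrArg PrimeSpectrum.asIdeal h)
      simp only [x₀, x₁, Ideal.comap_map_of_surjective _ Ideal.Quotient.mk_surjective, ← RingHom.ker_eq_comap_bot,
        Ideal.mk_ker, sup_eq_left.2 hJq, sup_eq_left.2 (hJq.trans hqm.le)] at this
      exact this
    haveI : Nonempty (PrimeSpectrum (T ⧸ J)) := ⟨x₀⟩
    refine lt_of_lt_of_le zero_lt_one ?_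
    have hl := Order.LTSeries.length_le_krullDim (RelSeries.singleton _ x₀ |>.snoc x₁ hlt)
    rw [show ((RelSeries.singleton _ x₀).snoc x₁ hlt).length = 1 from rfl] at hl
    exact le_of_eq_of_le Nat.cast_one.symm hl
  have hsub : Subsingleton (LocCoh.H J (d + 1) T) := by
    rcases hdimle.eq_or_lt with h | h
    · exact LCFin.HLVT.subsingleton_domain h J hJ
    · obtain ⟨m, hm⟩ := Depth.CM.supportDim_eq_nat (R := T) T
      rw [Module.supportDim_self_eq_ringKrullDim] at hm
      rw [hm] at h
      exact LCFin.Cd.cdLE_of_ringKrullDim J m hm.le T (d + 1) (by exact_mod_cast h)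
  obtain ⟨M, hM⟩ := exists_pow_mem_of_subsingleton (fun i => φ (f i)) hsub N
  obtain ⟨c, hc⟩ := (Ideal.mem_span_range_iff_exists_fun).1 hM
  choose a ha using fun i => Ideal.Quotient.mk_surjective (c i)
  -- truncation
  let D := e * (d + 1) * M
  let b : Fin (d + 1) → MvPolynomial (Fin V) k := fun i =>
    if e * (N + M) ≤ D then homogeneousComponent (D - e * (N + M)) ((a i).truncTotal (D + 1)) else 0
  refine ⟨M, b, fun i => ?_, ?_⟩
  · dsimp only [b]
    split_ifs
    · exact homogeneousComponent_isHomogeneous _ _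
    · exact isHomogeneous_zero _ _ _
  have hF : ((∏ i, f i) ^ M).IsHomogeneous D := by
    have h1 : (∏ i, f i).IsHomogeneous (∑ _i : Fin (d + 1), e) := IsHomogeneous.prod _ _ _ fun i _ => he i
    simp only [Finset.sum_const, Finset.card_univ, Fintype.card_fin, smul_eq_mul] at h1
    have h2 := h1.pow M
    rwa [mul_comm (d + 1) e] at h2
  let Φ := MvPolynomial.coeToMvPowerSeries.ringHom (σ := Fin V) (R := k)
  have hmem : Φ ((∏ i, f i) ^ M) - ∑ i, a i * Φ (f i ^ (N + M)) ∈ I := by
    rw [← Ideal.Quotient.eq_zero_iff_mem, map_sub, map_sum]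
    simp only [map_mul, ha, map_pow, map_prod]
    rw [sub_eq_zero]
    simp only [φ, Φ, RingHom.comp_apply] at hc ⊢
    exact hc.symm
  have h1 := mem_pHat_iff.1 hmem (D + 1)
  have h2 : (∏ i, f i) ^ M - ∑ i, (a i).truncTotal (D + 1) * f i ^ (N + M) ∈ P ⊔ idealOfVars (Fin V) k ^ (D + 1) := by
    have hq : ∀ (x : R), Ideal.Quotient.mk (idealOfVars (Fin V) k ^ (D + 1)) (x.truncTotal (D + 1)) =
        MvPowerSeries.truncTotalAlgHom (Fin V) k (D + 1) x := fun x => rfl
    have hΦ : ∀ p, MvPowerSeries.truncTotalAlgHom (Fin V) k (D + 1) (Φ p) =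
        Ideal.Quotient.mk (idealOfVars (Fin V) k ^ (D + 1)) p := fun p =>
      Ideal.Quotient.eq.2 (truncTotal_coe_sub_mem p (D + 1))
    rw [← Ideal.mk_ker (I := idealOfVars (Fin V) k ^ (D + 1)), RingHom.ker_eq_comap_bot,
      ← Ideal.comap_map_of_surjective _ Ideal.Quotient.mk_surjective, Ideal.mem_comap] at h1 ⊢
    rw [hq, map_sub, map_sum] at h1
    simp only [map_mul, hΦ] at h1
    rw [map_sub, map_sum]
    simp only [map_mul]
    simp only [hq]
    exact h1
  have h3 := (mem_sup_pow_iff hP _ (D + 1)).1 h2 D D.lt_succ_self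
  rw [map_sub, map_sum, homogeneousComponent_eq_self hF] at h3
  have hcomp : ∀ (p : MvPolynomial (Fin V) k) (i : Fin (d + 1)),
      homogeneousComponent D (p * f i ^ (N + M)) =
        (if e * (N + M) ≤ D then homogeneousComponent (D - e * (N + M)) p else 0) * f i ^ (N + M) := by
    intro p i
    conv_lhs => rw [← sum_homogeneousComponent p, Finset.sum_mul, map_sum]
    have hh : ∀ l, ((homogeneousComponent l p) * f i ^ (N + M)).IsHomogeneous (l + e * (N + M)) :=
      fun l => (homogeneousComponent_isHomogeneous l p).mul ((he i).pow _)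
    simp only [homogeneousComponent_of_mem (hh _)]
    split_ifs with hle
    · rw [Finset.sum_eq_single (D - e * (N + M))]
      · rw [if_pos (by omega)]
      · intro l _ hl; rw [if_neg (by omega)]
      · intro hl
        rw [homogeneousComponent_eq_zero _ p (by simp at hl; omega), zero_mul, ite_self]
    · rw [zero_mul]
      exact Finset.sum_eq_zero fun l _ => if_neg (by omega)
  simp only [hcomp] at h3
  exact h3

end Groth.Agent.H23.Lichtenbaum
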