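import Groth.Agent.H22.QProj.Chow
import Groth.Agent.H22.BlowUpAmple
import Groth.Agent.Lib.ProjMor.QP
import Groth.Agent.Lib.Ideal.BlowUp
import Groth.Agent.Lib.Chow.Projective
import Groth.Agent.Lib.PProj.OOne
import Groth.Agent.Lib.AffineCompl.Dim
import Groth.Agent.Lib.ProjSpace.BaseChange
import Groth.Agent.Lib.Ample.RelAmple

/-!
A non-proper variety is properly dominated by a non-proper quasi-projective blow-up of itself.
-/

set_option autoImplicit false

universe u

open CategoryTheory CategoryTheory.Limits AlgebraicGeometry TopologicalSpace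

namespace Groth.Agent.H23.Lichtenbaum.Model

open Groth.Agent.Lib Groth.Agent.Lib.BlowUpExists

variable {k : Type u} [Field k]

/-- An affine scheme of finite type is quasi-projective. -/
theorem isQuasiProjective_of_affine {U : Scheme.{u}} [IsAffine U] (f : U ⟶ Spec (CommRingCat.of k))
    [LocallyOfFiniteType f] : RelProj.IsQuasiProjective f :=
  ⟨inferInstance, inferInstance, Coh.structureModule U,
    (Ample.RelAmple.isRelAmple_iff_isAmple f).2
      (Ample.RelAmple.isAmple_of_isAffine (PicLoc.isInvertible_structureModule U))⟩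

/-- The complement of an effective Cartier divisor is dense. -/
theorem dense_compl_support {Y : Scheme.{u}} {E : Y.IdealSheafData} (hE : BlowUp.IsEffCartierIdeal E) :
    Dense ((E.support : Set Y)ᶜ) := by
  rw [dense_iff_inter_open]
  intro O hO ⟨x, hx⟩
  by_contra hne
  rw [Set.not_nonempty_iff_eq_empty] at hne
  have h1 : (1 : Γ(Y, (⟨O, hO⟩ : Y.Opens))) = 0 :=
    Ideal.EffCartier.eq_zero_of_germ_eq_zero_off hE _ fun y hy hys =>
      absurd (show y ∈ O ∩ (E.support : Set Y)ᶜ from ⟨hy, hys⟩) (hne ▸ Set.notMem_empty y)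
  have h2 := congrArg (Y.presheaf.germ (⟨O, hO⟩ : Y.Opens) x hx) h1
  rw [map_one, map_zero] at h2
  exact one_ne_zero h2

/-- The model. -/
theorem exists_model {X : Scheme.{u}} [IsIntegral X] (f : X ⟶ Spec (CommRingCat.of k)) [IsSeparated f]
    [LocallyOfFiniteType f] [QuasiCompact f] :
    ∃ (I : X.IdealSheafData) (N : ℕ) (j : bl I ⟶ CohB1.ProjSpace N k),
      (∀ V, (I.ideal V).FG) ∧ (I.support.compl : Set X).Nonempty ∧ IsProper (blProj I) ∧
      Surjective (blProj I) ∧ IsIntegral (bl I) ∧ IsImmersion j ∧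
      j ≫ CohB1.ProjSpace.toSpec N k = blProj I ≫ f ∧
      topologicalKrullDim (bl I) = topologicalKrullDim X ∧ IsIso (blProj I ∣_ I.support.compl) := by
  obtain ⟨U, hU, hxU, -⟩ := exists_isAffineOpen_mem_and_subset (X := X) (x := genericPoint X) (U := ⊤) trivial
  haveI : IsAffine (U : Scheme.{u}) := hU
  have hUd : Dense (U : Set X) := U.2.dense ⟨_, hxU⟩
  obtain ⟨I, X', P, q, j, g, hq, hI, hg, hj, -, hjg⟩ :=
    H22.QProj.exists_chow f U hUd (isQuasiProjective_of_affine (U.ι ≫ f))
  haveI := hj
  have hne : (I.support.compl : Set X).Nonempty :=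
    ⟨_, Set.disjoint_right.1 hI.2 hxU⟩
  have hb := H22.BlowUpAmple.isBlowUp_blProj I
  obtain ⟨h, hh, -⟩ := hq.2 _ (blProj I) hb.1
  obtain ⟨h', hh', -⟩ := hb.2 _ q hq.1
  haveI : IsIso h := by
    refine ⟨h', ?_, ?_⟩
    · exact (hb.2 _ (blProj I) hb.1).unique (by rw [Category.assoc, hh', hh]) (Category.id_comp _)
    · exact (hq.2 _ q hq.1).unique (by rw [Category.assoc, hh, hh']) (Category.id_comp _)
  obtain ⟨N, i, hi, -, hip⟩ :=
    ProjMor.QP.isHQuasiProjective_of_isAffine (PProj.isQuasiProjective_of_isProjective hg)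
  haveI := hi
  haveI := isProper_blProj hI.1
  haveI hiso := Ideal.BlowUp.isIso_off_center hb
  haveI : IsReduced (bl I) := Ideal.BlowUp.isReduced hb
  have hd : Dense ((blProj I ⁻¹ᵁ I.support.compl : (bl I).Opens) : Set (bl I)) := by
    have := dense_compl_support hb.1
    rwa [Scheme.IdealSheafData.support_comap] at this
  haveI : IrreducibleSpace (bl I) :=
    Chow.Projective.irreducibleSpace_modification (blProj I) I.support.compl hd
      (I.support.compl.2.dense hne) 
  haveI : IsIntegral (bl I) := isIntegral_of_irreducibleSpace_of_isReduced _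
  have hsurj : Surjective (blProj I) := by
    refine ⟨fun x => ?_⟩
    have hcl : IsClosed (Set.range (blProj I)) := (blProj I).isClosedMap.isClosed_range
    refine hcl.closure_subset_iff.2 ?_ ((I.support.compl.2.dense hne) x)
    intro y hy
    obtain ⟨z, hz⟩ := (ConcreteCategory.bijective_of_isIso (blProj I ∣_ I.support.compl).base).2 ⟨y, hy⟩
    rw [morphismRestrict_base] at hz
    exact ⟨z.1, congrArg Subtype.val hz⟩
  have hdim : topologicalKrullDim (bl I) = topologicalKrullDim X := by
    haveI : Nonempty (blProj I ⁻¹ᵁ I.support.compl : (bl I).Opens) := hd.nonempty.to_subtype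
    haveI : Nonempty (I.support.compl : X.Opens) := hne.to_subtype
    rw [← AffineCompl.Dim.topologicalKrullDim_opens (blProj I ≫ f) (blProj I ⁻¹ᵁ I.support.compl),
      ← AffineCompl.Dim.topologicalKrullDim_opens f I.support.compl]
    exact IsHomeomorph.topologicalKrullDim_eq _
      (blProj I ∣_ I.support.compl).homeomorph.isHomeomorph
  refine ⟨I, N, h ≫ j ≫ i ≫ (ProjSpace.BaseChange.overSpecIso N k).hom, hI.1, hne, inferInstance, hsurj,
    inferInstance, inferInstance, ?_, hdim, hiso⟩
  simp only [Category.assoc]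
  rw [ProjSpace.BaseChange.overSpecIso_hom_toSpec, hip, hjg, ← Category.assoc, hh]

end Groth.Agent.H23.Lichtenbaum.Model
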