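import Groth.Agent.H23.Lichtenbaum.QuasiProj
import Groth.Agent.H23.Lichtenbaum.Model
import Groth.Agent.H23.Lichtenbaum.Push
import Groth.Agent.H23.Lichtenbaum.AR
import Groth.Agent.Lib.CohDelta.IdealMul.Main
import Groth.Agent.Lib.CohDelta.AffCover
import Groth.Agent.Lib.Modules.AffineHom
import Groth.Agent.Lib.Snapper.Twist
import Groth.Agent.Lib.Ample.QAffCrit

/-!
Lichtenbaum: top cohomology of a non-proper variety vanishes.
-/

set_option autoImplicit false
set_option maxHeartbeats 1000000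

universe u

open CategoryTheory CategoryTheory.Limits AlgebraicGeometry TopologicalSpace Opposite

namespace Groth.Agent.H23.Lichtenbaum.Main

attribute [local instance] HasFiniteBiproducts.of_hasFiniteProducts

open Groth.Agent.Lib Groth.Agent.Lib.BlowUpExists
open Groth.Agent.Lib.CohDelta.IdealMul
open Groth.Agent.Lib.TensorMod.Dual (rs rs_rs rs_smul)

variable {k : Type u} [Field k]

/-- A section over an open as a morphism there from the structure module. -/
theorem exists_hom_of_section {X : Scheme.{u}} (F : X.Modules) (U : X.Opens) (t : Γ(F, U)) :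
    ∃ φ : (Scheme.Modules.restrictFunctor U.ι).obj (Coh.structureModule X) ⟶
        (Scheme.Modules.restrictFunctor U.ι).obj F,
      ∀ (W : (U : Scheme.{u}).Opens) (_ : IsAffineOpen W) (a : Γ(X, U.ι ''ᵁ W)),
        φ.app W a = (a • rs F (U.ι_image_le W) t : Γ(F, U.ι ''ᵁ W)) := by
  let φ : ∀ W : (U : Scheme.{u}).affineOpens,
      Γ((Scheme.Modules.restrictFunctor U.ι).obj (Coh.structureModule X), W.1) →ₗ[Γ(U, W.1)]
        Γ((Scheme.Modules.restrictFunctor U.ι).obj F, W.1) := fun W =>
    { toFun := fun a => ((show Γ(X, U.ι ''ᵁ W.1) from a) • rs F (U.ι_image_le W.1) t : Γ(F, U.ι ''ᵁ W.1))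
      map_add' := fun a b => add_smul (show Γ(X, U.ι ''ᵁ W.1) from a) (show Γ(X, U.ι ''ᵁ W.1) from b)
        (rs F (U.ι_image_le W.1) t)
      map_smul' := fun r a => mul_smul ((U.ι.appIso W.1).inv r) (show Γ(X, U.ι ''ᵁ W.1) from a)
        (rs F (U.ι_image_le W.1) t) }
  obtain ⟨ψ, hψ⟩ := Modules.AffineHom.exists_hom_of_affine φ fun W W' h a => by
    show rs F (U.ι.image_mono h) ((show Γ(X, U.ι ''ᵁ W.1) from a) • rs F (U.ι_image_le W.1) t) =
      (show Γ(X, U.ι ''ᵁ W'.1) from rs (Coh.structureModule X) (U.ι.image_mono h) a) • rs F (U.ι_image_le W'.1) t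
    rw [rs_smul, rs_rs]
    rfl
  exact ⟨ψ, fun W hW a => hψ ⟨W, hW⟩ a⟩

/-- Generators on an affine open restrict to generators on smaller affine opens. -/
theorem span_restrict {X : Scheme.{u}} (F : X.Modules) [F.IsQuasicoherent] {U W : X.Opens}
    (hU : IsAffineOpen U) (hW : IsAffineOpen W) (h : W ≤ U) (S : Set Γ(F, U))
    (hS : Submodule.span Γ(X, U) S = ⊤) :
    Submodule.span Γ(X, W) (rs F h '' S) = ⊤ := by
  refine CohBasics.Affine.span_eq_top_of_germ hW _ fun x hx => ?_
  rw [← CohBasics.Affine.germ_span_eq_top hU S hS (h hx), Set.image_image]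
  congr 1
  exact Set.image_congr fun s _ => TopCat.Presheaf.germ_res_apply F.presheaf (homOfLE h) x hx s

/-- Values of an extension of a morphism given on `U` by a section. -/
theorem app_of_restrict {X : Scheme.{u}} (F : X.Modules) (U : X.Opens) {A : X.Modules}
    (ι' : A ⟶ Coh.structureModule X) (ψ : A ⟶ F)
    (φ : (Scheme.Modules.restrictFunctor U.ι).obj (Coh.structureModule X) ⟶
      (Scheme.Modules.restrictFunctor U.ι).obj F)
    (h : (Scheme.Modules.restrictFunctor U.ι).map ψ = (Scheme.Modules.restrictFunctor U.ι).map ι' ≫ φ)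
    (t : Γ(F, U))
    (hφ : ∀ (W : (U : Scheme.{u}).Opens) (_ : IsAffineOpen W) (a : Γ(X, U.ι ''ᵁ W)),
      φ.app W a = (a • rs F (U.ι_image_le W) t : Γ(F, U.ι ''ᵁ W)))
    {W : X.Opens} (hWU : W ≤ U) (W' : (U : Scheme.{u}).Opens) (hW'a : IsAffineOpen W')
    (e : U.ι ''ᵁ W' = W) (z : Γ(A, W)) :
    ψ.app W z = (show Γ(X, W) from ι'.app W z) • rs F hWU t := by
  subst e
  refine (congr(($h).app W' z)).trans ?_
  exact hφ W' hW'a _

variable {X : Scheme.{u}} [IsIntegral X] (f : X ⟶ Spec (CommRingCat.of k)) [IsSeparated f]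
  [LocallyOfFiniteType f] [QuasiCompact f]

include f in
/-- Top cohomology of coherent modules on a non-proper variety vanishes. -/
theorem subsingleton_HH (hnp : ¬ IsProper f) (n : ℕ)
    (hd : topologicalKrullDim X ≤ ((n + 1 : ℕ) : WithBot ℕ∞)) (F : X.Modules) (hF : Coh.IsCoh F) :
    Subsingleton (Coh.HH X F (n + 1)) := by
  classical
  haveI : IsLocallyNoetherian X := LocallyOfFiniteType.isLocallyNoetherian f
  haveI : CompactSpace X := QuasiCompact.compactSpace_of_compactSpace f
  haveI : AlgebraicGeometry.IsNoetherian X := {}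
  letI : X.Over (Spec (CommRingCat.of k)) := ⟨f⟩
  haveI := hF.1
  obtain ⟨I, N, j, hI, hne, hq, hqs, hint, hj, hjf, hdim, hiso⟩ := Model.exists_model f
  haveI := hq
  haveI := hqs
  haveI := hint
  haveI := hiso
  haveI : IsLocallyNoetherian (bl I) := LocallyOfFiniteType.isLocallyNoetherian (blProj I)
  have hup : ∀ M : (bl I).Modules, Coh.IsQCoh M → Subsingleton (Coh.HH (bl I) M (n + 1)) := by
    intro M hM
    haveI := hM
    haveI : IsImmersion (show bl I ⟶ Proj (CohB1.polyGrading N k) from j) := hj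
    refine QuasiProj.subsingleton_HH (show bl I ⟶ Proj (CohB1.polyGrading N k) from j)
      (fun hc => hnp ?_) n (hdim ▸ hd) M
    haveI : IsClosedImmersion j := IsClosedImmersion.of_isPreimmersion j hc
    haveI : IsProper (CohB1.ProjSpace.toSpec N k) := Groth.Agent.Lib.ProjSpace.Basic.isProper_toSpec N k
    haveI : IsProper (blProj I ≫ f) := by rw [← hjf]; infer_instance
    haveI : UniversallyClosed f := UniversallyClosed.of_comp_surjective (blProj I) f
    exact ⟨⟩
  let q := blProj I
  let G : X.Modules := (Coh.push q).obj (Coh.structureModule (bl I))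
  have hG : Coh.IsCoh G := Cyc.PP.Push.isCoh_push q (Snapper.Twist.isCoh_structureModule _)
  haveI := hG.1
  haveI := (Snapper.Twist.isCoh_structureModule X).1
  let u : Coh.structureModule X ⟶ G := SheafOfModules.unitToPushforwardObjUnit q.toRingCatSheafHom
  have hu : ∀ (W : X.Opens) (a : Γ(X, W)), u.app W a = q.app W a := fun _ _ => rfl
  haveI : IsSchemeTheoreticallyDominant q := .of_isDominant q
  haveI : Mono u := (Modules.Stalk.mono_iff_app_injective u).2 fun W a b hab => by
    have hab' : q.app W a = q.app W b := hab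
    exact q.app_injective W hab'
  -- an affine open in the isomorphism locus
  obtain ⟨x₀, hx₀⟩ := hne
  obtain ⟨U, hU, hxU, hUI⟩ := exists_isAffineOpen_mem_and_subset (U := I.support.compl) hx₀
  let Z : Closeds X := ⟨(U : Set X)ᶜ, U.2.isClosed_compl⟩
  let K := Scheme.IdealSheafData.vanishingIdeal Z
  have hK : (U : Set X) = (K.support : Set X)ᶜ := by
    rw [Scheme.IdealSheafData.coe_support_vanishingIdeal]
    simp [Z]
  -- `q_*O` agrees with `O` up to a power of `K`
  obtain ⟨e, he⟩ := Main.exists_pow_le_range K hG u (by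
    intro x hx
    by_contra hxs
    have hxU' : x ∈ U := by
      rw [← SetLike.mem_coe, hK]
      exact hxs
    refine hx (GenSurj.subsingleton_stalk_of_isZero_restrict (U := U) ?_ hxU')
    haveI : Epi ((Scheme.Modules.restrictFunctor U.ι).map u) :=
      Push.epi_restrict_of_sections u U fun W _ hWU => by
        haveI := ProperFin.Generator.isIso_app q hiso (hWU.trans hUI)
        exact (ConcreteCategory.bijective_of_isIso (q.app W)).2
    exact (isZero_cokernel_of_epi ((Scheme.Modules.restrictFunctor U.ι).map u)).of_iso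
      (PreservesCokernel.iso (Scheme.Modules.restrictFunctor U.ι) u))
  -- generators of `F` on `U`
  haveI hfin : Module.Finite Γ(X, U) Γ(F, U) := CohBasics.Closure.finite_sections hF hU
  obtain ⟨r, t, ht⟩ := Module.Finite.exists_fin (R := Γ(X, U)) (M := Γ(F, U))
  choose φ hφ using fun i => exists_hom_of_section F U (t i)
  choose m₀ hm₀ using fun i => Main.exists_hom_extension K (Snapper.Twist.isCoh_structureModule X) hK (φ i)
  let m := Finset.univ.sup m₀
  choose ψ hψ using fun i => hm₀ i m (Finset.le_sup (Finset.mem_univ i))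
  -- a power of the inverse ideal mapping into `K^m`
  obtain ⟨T, hT⟩ := isCompact_univ.elim_finite_subcover (fun V : X.affineOpens => (V.1 : Set X))
    (fun V => V.1.2) (fun x _ => by
      obtain ⟨W, hW, hxW, -⟩ := exists_isAffineOpen_mem_and_subset (X := X) (x := x) (U := ⊤) trivial
      exact Set.mem_iUnion.2 ⟨⟨W, hW⟩, hxW⟩)
  choose n₀ hn₀ using fun V : X.affineOpens => AR.exists_bound_preimage q K V (m + e)
  let M := T.sup n₀
  let H : (bl I).Modules := _root_.ClSub.idealMod (K.comap q ^ M)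
  haveI : H.IsQuasicoherent := Ample.QAffCrit.isQCoh_idealMod _
  have hH : Coh.IsCoh H :=
    CohBasics.Closure.isCoh_of_mono (_root_.ClSub.idealModι (K.comap q ^ M)) (Snapper.Twist.isCoh_structureModule _)
  haveI := (Cyc.PP.Push.isCoh_push q hH).1
  let ι := _root_.ClSub.idealModι (K.comap q ^ M)
  obtain ⟨l, hl⟩ := Sec.exists_lift (Dual3.idealMulι (K ^ m) (Coh.structureModule X) ≫ u) ((Coh.push q).map ι)
    fun x => by
      obtain ⟨V, hVT, hxV⟩ := Set.mem_iUnion₂.1 (hT (Set.mem_univ x))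
      refine ⟨V.1, V.2, hxV, ?_⟩
      rintro _ ⟨s, rfl⟩
      rw [Sec.range_ι_comp (K ^ m) u V, Scheme.IdealSheafData.ideal_pow, Pi.pow_apply]
      let s' : Γ(bl I, q ⁻¹ᵁ V.1) := ι.app (q ⁻¹ᵁ V.1) s
      have hs := hn₀ V M (Finset.le_sup hVT) s' fun W hW => by
        refine (ClSub.Sections.mem_range_idealModι_app_affine_iff _ W _).1
          ⟨(H.presheaf.map (homOfLE hW).op) s, ?_⟩
        exact (Modules.TensorSec.app_rs ι hW s)
      refine Submodule.smul_mono le_rfl (he e le_rfl V) ?_
      rw [← Submodule.mul_smul, ← pow_add]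
      refine Submodule.span_induction (p := fun (w : Γ(bl I, q ⁻¹ᵁ V.1)) _ => (show Γ(G, V.1) from w) ∈
        K.ideal V ^ (m + e) • (⊤ : Submodule Γ(X, V.1) Γ(G, V.1))) ?_ (zero_mem _)
        (fun a b _ _ ha hb => add_mem ha hb) (fun c w _ hw => ?_) hs
      · rintro _ ⟨a, ha, rfl⟩
        rw [show ((q.app V.1).hom a : Γ(bl I, q ⁻¹ᵁ V.1)) = q.app V.1 a * 1 from (mul_one _).symm]
        exact Submodule.smul_mem_smul (r := a) (n := (show Γ(G, V.1) from (1 : Γ(bl I, q ⁻¹ᵁ V.1)))) ha Submodule.mem_top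
      · refine Submodule.smul_induction_on (p := fun (z : Γ(G, V.1)) => (show Γ(G, V.1) from c * (show Γ(bl I, q ⁻¹ᵁ V.1) from z)) ∈
          K.ideal V ^ (m + e) • (⊤ : Submodule Γ(X, V.1) Γ(G, V.1))) hw (fun a ha v _ => ?_)
          (fun a b ha hb => (mul_add c a b).symm ▸ add_mem ha hb)
        show (show Γ(G, V.1) from c * (q.app V.1 a * (show Γ(bl I, q ⁻¹ᵁ V.1) from v))) ∈ _
        rw [mul_left_comm]
        exact Submodule.smul_mem_smul (r := a) (n := (show Γ(G, V.1) from c * (show Γ(bl I, q ⁻¹ᵁ V.1) from v))) ha Submodule.mem_top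
  let C : X.Modules := (Coh.push q).obj H
  let Φ : (⨁ fun _ : Fin r => C) ⟶ F := biproduct.desc fun i => l ≫ ψ i
  refine GenSurj.subsingleton_of_generic_epi k hd Φ ⟨x₀, hxU⟩
    (Push.epi_restrict_of_sections Φ U fun W hW hWU => ?_)
    (CohDelta.AffCover.subsingleton_HH_biproduct _ _ fun _ =>
      Push.subsingleton_HH_push f hd I hI ⟨x₀, hx₀⟩ hup H hH)
  -- surjectivity over affine opens inside `U`
  let W' : (U : Scheme.{u}).Opens := U.ι ⁻¹ᵁ W
  have hW'e : U.ι ''ᵁ W' = W := by
    rw [Scheme.Hom.image_preimage_eq_opensRange_inf, Scheme.Opens.opensRange_ι, inf_eq_right.2 hWU]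
  have hW'a : IsAffineOpen W' := (U.ι.isAffineOpen_iff_of_isOpenImmersion).1 (hW'e ▸ hW)
  have haff : IsAffineOpen (q ⁻¹ᵁ W) := Push.isAffineOpen_preimage_of_le q hW (hWU.trans hUI)
  have htop : (K.comap q ^ M).ideal ⟨q ⁻¹ᵁ W, haff⟩ = ⊤ := by
    rw [Scheme.IdealSheafData.ideal_pow, Pi.pow_apply, Push.ideal_eq_top _ _ fun x hx hxs => ?_, ← Ideal.one_eq_top, one_pow]
    rw [Scheme.IdealSheafData.support_comap] at hxs
    exact (hK.le (hWU hx) : q x ∉ K.support) hxs
  obtain ⟨s₁, hs₁⟩ := (ClSub.Sections.mem_range_idealModι_app_affine_iff (K.comap q ^ M)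
    ⟨_, haff⟩ 1).2 (by rw [htop]; trivial)
  let c₁ : Γ(C, W) := s₁
  have hval : ∀ i, (ψ i).app W (l.app W c₁) = rs F hWU (t i) := by
    intro i
    have h1 : u.app W ((Dual3.idealMulι (K ^ m) (Coh.structureModule X)).app W (l.app W c₁)) = u.app W (1 : Γ(X, W)) := by
      refine (congr(($hl).app W c₁)).trans ?_
      exact hs₁.trans (map_one (q.app W).hom).symm
    have h2 := Modules.LocalSections.app_injective u W h1
    have key := app_of_restrict F U (Dual3.idealMulι (K ^ m) (Coh.structureModule X)) (ψ i) (φ i)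
      (hψ i) (t i) (hφ i) hWU W' hW'a hW'e
    exact (key _).trans ((congrArg (fun a : Γ(X, W) => a • rs F hWU (t i)) h2).trans (one_smul _ _))
  intro s
  haveI := hF.1
  have hspan : Submodule.span Γ(X, W) (Set.range fun i => rs F hWU (t i)) = ⊤ := by
    have h := span_restrict F hU hW hWU (Set.range t) ht
    rwa [← Set.range_comp] at h
  obtain ⟨a, ha⟩ := (Submodule.mem_span_range_iff_exists_fun _).1 (show s ∈ _ from hspan ▸ Submodule.mem_top)
  refine ⟨∑ i, a i • (biproduct.ι (fun _ : Fin r => C) i).app W c₁, ?_⟩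
  rw [map_sum, ← ha]
  refine Finset.sum_congr rfl fun i _ => ?_
  rw [Scheme.Modules.Hom.app_smul]
  refine congrArg (a i • ·) ?_
  refine (congr(($(biproduct.ι_desc (fun i => l ≫ ψ i) i)).app W c₁)).trans ?_
  exact hval i

end Groth.Agent.H23.Lichtenbaum.Main
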