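import Mathlib.RingTheory.MvPowerSeries.Equiv
import Mathlib.RingTheory.MvPolynomial.Homogeneous
import Mathlib.RingTheory.GradedAlgebra.Homogeneous.Ideal

/-!
The closure of a homogeneous ideal of polynomials in the power series ring.
-/

set_option autoImplicit false

universe u v

namespace Groth.Agent.H23.Lichtenbaum

open MvPolynomial

variable {σ : Type v} [Finite σ] {k : Type u} [CommRing k]

/-- An ideal of polynomials which is stable under taking homogeneous components. -/
def IsCompStable (P : Ideal (MvPolynomial σ k)) : Prop :=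
  ∀ p ∈ P, ∀ n, homogeneousComponent n p ∈ P

theorem comp_eq_zero_of_mem_pow {p : MvPolynomial σ k} {n i : ℕ}
    (hp : p ∈ idealOfVars σ k ^ n) (hi : i < n) : homogeneousComponent i p = 0 := by
  ext x
  rw [coeff_homogeneousComponent, MvPolynomial.coeff_zero]
  split_ifs with h
  · exact (mem_pow_idealOfVars_iff' n p).1 hp x (h ▸ hi)
  · rfl

theorem mem_pow_of_isHomogeneous {p : MvPolynomial σ k} {n i : ℕ}
    (hp : p.IsHomogeneous i) (hi : n ≤ i) : p ∈ idealOfVars σ k ^ n := by
  rw [mem_pow_idealOfVars_iff']
  intro x hx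
  exact hp.coeff_eq_zero (by omega)

theorem mem_sup_pow_iff {P : Ideal (MvPolynomial σ k)} (hP : IsCompStable P) (p : MvPolynomial σ k)
    (n : ℕ) : p ∈ P ⊔ idealOfVars σ k ^ n ↔ ∀ i < n, homogeneousComponent i p ∈ P := by
  constructor
  · intro hp i hi
    obtain ⟨a, ha, b, hb, rfl⟩ := Submodule.mem_sup.1 hp
    rw [map_add, comp_eq_zero_of_mem_pow hb hi, add_zero]
    exact hP a ha i
  · intro h
    rw [← sum_homogeneousComponent p]
    refine Submodule.sum_mem _ fun i _ => ?_
    rcases lt_or_ge i n with hi | hi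
    · exact Submodule.mem_sup_left (h i hi)
    · exact Submodule.mem_sup_right (mem_pow_of_isHomogeneous (homogeneousComponent_isHomogeneous i p) hi)

/-- The closure in the power series ring of an ideal of polynomials. -/
noncomputable def pHat (P : Ideal (MvPolynomial σ k)) : Ideal (MvPowerSeries σ k) :=
  ⨅ n, (P.map (Ideal.Quotient.mk (idealOfVars σ k ^ n))).comap (MvPowerSeries.truncTotalAlgHom σ k n)

theorem mem_pHat_iff {P : Ideal (MvPolynomial σ k)} {f : MvPowerSeries σ k} :
    f ∈ pHat P ↔ ∀ n, f.truncTotal n ∈ P ⊔ idealOfVars σ k ^ n := by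
  simp only [pHat, Ideal.mem_iInf, Ideal.mem_comap, MvPowerSeries.truncTotalAlgHom_apply]
  refine forall_congr' fun n => ?_
  rw [← Ideal.mem_comap, Ideal.comap_map_of_surjective _ Ideal.Quotient.mk_surjective,
    ← RingHom.ker_eq_comap_bot, Ideal.mk_ker]

theorem pHat_mono {P Q : Ideal (MvPolynomial σ k)} (h : P ≤ Q) : pHat P ≤ pHat Q := fun _ hf =>
  mem_pHat_iff.2 fun n => sup_le_sup_right h _ (mem_pHat_iff.1 hf n)

theorem truncTotal_coe_sub_mem (p : MvPolynomial σ k) (n : ℕ) :
    (p : MvPowerSeries σ k).truncTotal n - p ∈ idealOfVars σ k ^ n := by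
  rw [mem_pow_idealOfVars_iff']
  intro x hx
  rw [MvPolynomial.coeff_sub, MvPowerSeries.coeff_truncTotal _ hx, MvPolynomial.coeff_coe, sub_self]

theorem comp_truncTotal_coe (p : MvPolynomial σ k) {n i : ℕ} (hi : i < n) :
    homogeneousComponent i ((p : MvPowerSeries σ k).truncTotal n) = homogeneousComponent i p := by
  rw [← sub_eq_zero, ← map_sub]
  exact comp_eq_zero_of_mem_pow (truncTotal_coe_sub_mem p n) hi

theorem comp_truncTotal (f : MvPowerSeries σ k) {n m i : ℕ} (hn : i < n) (hm : i < m) :
    homogeneousComponent i (f.truncTotal n) = homogeneousComponent i (f.truncTotal m) := by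
  ext x
  rw [coeff_homogeneousComponent, coeff_homogeneousComponent]
  split_ifs with h
  · rw [MvPowerSeries.coeff_truncTotal _ (h ▸ hn), MvPowerSeries.coeff_truncTotal _ (h ▸ hm)]
  · rfl

theorem coe_mem_pHat_iff {P : Ideal (MvPolynomial σ k)} (hP : IsCompStable P) {p : MvPolynomial σ k} :
    (p : MvPowerSeries σ k) ∈ pHat P ↔ p ∈ P := by
  rw [mem_pHat_iff]
  constructor
  · intro h
    rw [← sum_homogeneousComponent p]
    refine P.sum_mem fun i _ => ?_
    have := (mem_sup_pow_iff hP _ (i + 1)).1 (h (i + 1)) i i.lt_succ_self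
    rwa [comp_truncTotal_coe p i.lt_succ_self] at this
  · intro h n
    rw [mem_sup_pow_iff hP]
    intro i hi
    rw [comp_truncTotal_coe p hi]
    exact hP p h i

theorem exists_comp_notMem {P : Ideal (MvPolynomial σ k)} (hP : IsCompStable P) {f : MvPowerSeries σ k}
    (hf : f ∉ pHat P) : ∃ i, homogeneousComponent i (f.truncTotal (i + 1)) ∉ P ∧
      ∀ j < i, homogeneousComponent j (f.truncTotal (j + 1)) ∈ P := by
  classical
  have hex : ∃ i, homogeneousComponent i (f.truncTotal (i + 1)) ∉ P := by
    by_contra hall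
    push Not at hall
    refine hf (mem_pHat_iff.2 fun n => (mem_sup_pow_iff hP _ n).2 fun i hi => ?_)
    rw [comp_truncTotal f hi i.lt_succ_self]
    exact hall i
  exact ⟨Nat.find hex, Nat.find_spec hex, fun j hj => not_not.1 (Nat.find_min hex hj)⟩

theorem comp_mul_sub_mem {P : Ideal (MvPolynomial σ k)} {a b : MvPolynomial σ k} {i j : ℕ}
    (ha : ∀ l < i, homogeneousComponent l a ∈ P) (hb : ∀ l < j, homogeneousComponent l b ∈ P) :
    homogeneousComponent (i + j) (a * b) - homogeneousComponent i a * homogeneousComponent j b ∈ P := by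
  classical
  rw [← Ideal.Quotient.mk_eq_mk_iff_sub_mem]
  let A := max (a.totalDegree + 1) (i + 1)
  let B := max (b.totalDegree + 1) (j + 1)
  have hsum : ∀ (p : MvPolynomial σ k) (M : ℕ), p.totalDegree + 1 ≤ M →
      p = ∑ l ∈ Finset.range M, homogeneousComponent l p := by
    intro p M hM
    conv_lhs => rw [← sum_homogeneousComponent p]
    refine Finset.sum_subset (Finset.range_subset_range.2 hM) fun l _ hl => ?_
    exact homogeneousComponent_eq_zero l p (by simp at hl; omega)
  conv_lhs => rw [hsum a A (le_max_left _ _), hsum b B (le_max_left _ _), Finset.sum_mul_sum]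
  simp only [map_sum]
  rw [Finset.sum_eq_single i, Finset.sum_eq_single j]
  · rw [homogeneousComponent_of_mem ((homogeneousComponent_isHomogeneous i a).mul
      (homogeneousComponent_isHomogeneous j b)), if_pos rfl]
  · intro l _ hl
    rw [homogeneousComponent_of_mem ((homogeneousComponent_isHomogeneous i a).mul
      (homogeneousComponent_isHomogeneous l b)), if_neg (by omega), map_zero]
  · intro hj
    exact absurd (Finset.mem_range.2 (lt_of_lt_of_le j.lt_succ_self (le_max_right _ _))) hj
  · intro l _ hl
    refine Finset.sum_eq_zero fun l' _ => ?_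
    rw [homogeneousComponent_of_mem ((homogeneousComponent_isHomogeneous l a).mul
      (homogeneousComponent_isHomogeneous l' b))]
    split_ifs with h
    · rw [Ideal.Quotient.eq_zero_iff_mem]
      rcases lt_or_gt_of_ne hl with hl | hl
      · exact P.mul_mem_right _ (ha l hl)
      · exact P.mul_mem_left _ (hb l' (by omega))
    · exact map_zero _
  · intro hi
    exact absurd (Finset.mem_range.2 (lt_of_lt_of_le i.lt_succ_self (le_max_right _ _))) hi

theorem isPrime_pHat {P : Ideal (MvPolynomial σ k)} [P.IsPrime] (hP : IsCompStable P) :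
    (pHat P).IsPrime := by
  refine ⟨fun h => ?_, fun {f g} hfg => ?_⟩
  · have h1 : ((1 : MvPolynomial σ k) : MvPowerSeries σ k) ∈ pHat P := by
      rw [MvPolynomial.coe_one, h]; exact Submodule.mem_top
    exact Ideal.IsPrime.ne_top ‹_› ((Ideal.eq_top_iff_one P).2 ((coe_mem_pHat_iff hP).1 h1))
  · by_contra hne
    push Not at hne
    obtain ⟨i, hi, hi'⟩ := exists_comp_notMem hP hne.1
    obtain ⟨j, hj, hj'⟩ := exists_comp_notMem hP hne.2
    let n := i + j + 1
    have h1 := (mem_sup_pow_iff hP _ n).1 (mem_pHat_iff.1 hfg n) (i + j) (by omega)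
    have h2 : homogeneousComponent (i + j) ((f * g).truncTotal n) =
        homogeneousComponent (i + j) (f.truncTotal n * g.truncTotal n) := by
      rw [← sub_eq_zero, ← map_sub]
      exact comp_eq_zero_of_mem_pow
        (MvPowerSeries.truncTotal_mul_sub_mul_truncTotal_mem_pow_idealOfVars f g) (by omega)
    rw [h2] at h1
    have h3 := comp_mul_sub_mem (P := P) (a := f.truncTotal n) (b := g.truncTotal n) (i := i) (j := j)
      (fun l hl => by rw [comp_truncTotal f (by omega) l.lt_succ_self]; exact hi' l hl)
      (fun l hl => by rw [comp_truncTotal g (by omega) l.lt_succ_self]; exact hj' l hl)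
    have h4 : homogeneousComponent i (f.truncTotal n) * homogeneousComponent j (g.truncTotal n) ∈ P := by
      have := P.sub_mem h1 h3
      rwa [sub_sub_cancel] at this
    rcases Ideal.IsPrime.mem_or_mem ‹_› h4 with h | h
    · rw [comp_truncTotal f (by omega) i.lt_succ_self] at h; exact hi h
    · rw [comp_truncTotal g (by omega) j.lt_succ_self] at h; exact hj h

end Groth.Agent.H23.Lichtenbaum
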