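import Groth.Agent.H23.Lichtenbaum.Units
import Groth.Agent.H23.Lichtenbaum.Fractions
import Groth.Agent.H23.Lichtenbaum.Graded
import Groth.Agent.H23.Lichtenbaum.Choice

/-!
Top cohomology of a non-proper quasi-projective variety vanishes.
-/

set_option autoImplicit false

universe u

open CategoryTheory CategoryTheory.Limits AlgebraicGeometry TopologicalSpace Opposite

namespace Groth.Agent.H23.Lichtenbaum.QuasiProj

variable {k : Type u} [Field k] {N : ℕ}

local notation "𝒜" => CohB1.polyGrading N k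

/-- The preimage of a basic open avoiding the boundary is affine. -/
theorem isAffineOpen_preimage {X : Scheme.{u}} (j : X ⟶ Proj 𝒜) [IsImmersion j] {e : ℕ} (he : 0 < e)
    (f : MvPolynomial (Fin (N + 1)) k) (hf : f ∈ 𝒜 e)
    (h : ∀ z ∈ closure (Set.range j), z ∉ Set.range j → z ∉ Proj.basicOpen 𝒜 f) :
    IsAffineOpen (j ⁻¹ᵁ Proj.basicOpen 𝒜 f) := by
  have hU : IsAffineOpen (Proj.basicOpen 𝒜 f) := Proj.isAffineOpen_basicOpen 𝒜 f hf he
  have hcl : IsClosed (Set.range (j ∣_ Proj.basicOpen 𝒜 f)) := by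
    have h' : Set.range (j ∣_ Proj.basicOpen 𝒜 f) =
        Subtype.val ⁻¹' (closure (Set.range j)) := by
      ext z
      constructor
      · rintro ⟨x, rfl⟩
        refine subset_closure ⟨x.1, ?_⟩
        rw [morphismRestrict_base]
        rfl
      · intro hz
        obtain ⟨x, hx⟩ : z.1 ∈ Set.range j := by_contra fun hc => h z.1 hz hc z.2
        refine ⟨⟨x, show j x ∈ Proj.basicOpen 𝒜 f from hx.symm ▸ z.2⟩, Subtype.ext ?_⟩
        rw [morphismRestrict_base]
        exact hx
    rw [h']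
    exact isClosed_closure.preimage continuous_subtype_val
  haveI : IsImmersion (j ∣_ Proj.basicOpen 𝒜 f) := IsZariskiLocalAtTarget.restrict ‹_› _
  haveI : IsClosedImmersion (j ∣_ Proj.basicOpen 𝒜 f) := IsClosedImmersion.of_isPreimmersion _ hcl
  haveI : IsAffine (Proj.basicOpen 𝒜 f).toScheme := hU
  haveI : IsAffineHom (j ∣_ Proj.basicOpen 𝒜 f) := inferInstance
  exact isAffine_of_isAffineHom (j ∣_ Proj.basicOpen 𝒜 f)

/-- A power of every variable lies in a homogeneous prime plus forms without common zero on its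
zero locus. -/
theorem exists_X_pow_mem {m : ℕ} {e : ℕ} (y : ProjectiveSpectrum 𝒜)
    (g : Fin m → MvPolynomial (Fin (N + 1)) k) (hg : ∀ i, g i ∈ 𝒜 e)
    (hcov : ∀ z : ProjectiveSpectrum 𝒜, y ≤ z → ∃ i, g i ∉ z.asHomogeneousIdeal.toIdeal)
    (v : Fin (N + 1)) :
    ∃ c : ℕ, (MvPolynomial.X v : MvPolynomial (Fin (N + 1)) k) ^ c ∈
      y.asHomogeneousIdeal.toIdeal ⊔ Ideal.span (Set.range g) := by
  show (MvPolynomial.X v : MvPolynomial (Fin (N + 1)) k) ∈
    (y.asHomogeneousIdeal.toIdeal ⊔ Ideal.span (Set.range g)).radical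
  rw [Ideal.radical_eq_sInf, Ideal.mem_sInf]
  rintro q ⟨hq, hqp⟩
  by_contra hv
  let z : ProjectiveSpectrum 𝒜 :=
    { asHomogeneousIdeal := q.homogeneousCore 𝒜
      isPrime := hqp.homogeneousCore
      not_irrelevant_le := fun hle => hv (Ideal.toIdeal_homogeneousCore_le 𝒜 q (hle (by
        show MvPolynomial.X v ∈ (HomogeneousIdeal.irrelevant 𝒜)
        rw [HomogeneousIdeal.mem_irrelevant_iff, GradedRing.proj_apply]
        exact DirectSum.decompose_of_mem_ne 𝒜 (MvPolynomial.isHomogeneous_X k v) one_ne_zero))) }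
  have hz : y ≤ z := by
    show y.asHomogeneousIdeal.toIdeal ≤ (q.homogeneousCore 𝒜).toIdeal
    rw [← Ideal.IsHomogeneous.toIdeal_homogeneousCore_eq_self y.asHomogeneousIdeal.isHomogeneous]
    exact Ideal.homogeneousCore_mono 𝒜 (le_sup_left.trans hq)
  obtain ⟨i, hi⟩ := hcov z hz
  exact hi (Ideal.mem_homogeneousCore_of_homogeneous_of_mem ⟨e, hg i⟩
    (hq (Submodule.mem_sup_right (Ideal.subset_span ⟨i, rfl⟩))))

open Fractions in
/-- The top cohomology of a quasi-coherent module on a non-proper quasi-projective variety vanishes. -/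
theorem subsingleton_HH {X : Scheme.{u}} [IsIntegral X] (j : X ⟶ Proj 𝒜) [IsImmersion j]
    (hnc : ¬ IsClosed (Set.range j)) (n : ℕ) (hd : topologicalKrullDim X ≤ ((n + 1 : ℕ) : WithBot ℕ∞))
    (F : X.Modules) [Coh.IsQCoh F] : Subsingleton (Coh.HH X F (n + 1)) := by
  classical
  let jP : X ⟶ CohB1.ProjSpace N k := j
  haveI : IsImmersion jP := ‹IsImmersion j›
  -- generalities
  haveI : IsProper (CohB1.ProjSpace.toSpec N k) := Groth.Agent.Lib.ProjSpace.Basic.isProper_toSpec N k
  haveI hlnP : IsLocallyNoetherian (CohB1.ProjSpace N k) :=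
    LocallyOfFiniteType.isLocallyNoetherian (CohB1.ProjSpace.toSpec N k)
  haveI : CompactSpace (CohB1.ProjSpace N k) :=
    QuasiCompact.compactSpace_of_compactSpace (CohB1.ProjSpace.toSpec N k)
  haveI hnP : AlgebraicGeometry.IsNoetherian (CohB1.ProjSpace N k) := {}
  haveI : NoetherianSpace (Proj 𝒜) := inferInstanceAs (NoetherianSpace (CohB1.ProjSpace N k))
  haveI : NoetherianSpace X := j.isEmbedding.toIsInducing.noetherianSpace
  haveI : (CohB1.ProjSpace N k).IsSeparated :=
    ⟨by rw [← terminal.comp_from (CohB1.ProjSpace.toSpec N k)]; infer_instance⟩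
  haveI : X.IsSeparated := ⟨by
    rw [← terminal.comp_from jP]
    infer_instance⟩
  let y : ProjectiveSpectrum 𝒜 := j (genericPoint X)
  -- the boundary
  let B : Set (ProjectiveSpectrum 𝒜) := closure (Set.range j) \ Set.range j
  have hB : IsClosed B := by
    have h := (j.isLocallyClosed_range.isOpen_coborder).isClosed_compl
    rwa [coborder, compl_compl] at h
  obtain ⟨b, hb⟩ : B.Nonempty := by
    rw [Set.sdiff_nonempty]
    exact fun h => hnc (closure_subset_iff_isClosed.1 h)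
  have hcl : closure (Set.range j) ⊆ closure {y} := by
    refine closure_minimal ?_ isClosed_closure
    rintro _ ⟨x, rfl⟩
    exact (((genericPoint_spec X).specializes (Set.mem_univ x)).map j.continuous).mem_closure
  let J : HomogeneousIdeal 𝒜 := ProjectiveSpectrum.vanishingIdeal B
  have hJmem : ∀ z, J.toIdeal ≤ (z : ProjectiveSpectrum 𝒜).asHomogeneousIdeal.toIdeal → z ∈ B := by
    intro z hz
    rw [← hB.closure_eq, ← ProjectiveSpectrum.zeroLocus_vanishingIdeal_eq_closure,
      ProjectiveSpectrum.mem_zeroLocus]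
    exact hz
  obtain ⟨e, f, he, hf, hfJ, hfcov⟩ := Choice.exists_forms (T := X) (fun x => j x) j.continuous J
    (fun x h => (hJmem _ h).2 ⟨x, rfl⟩) (n + 1) hd
  have hfB : ∀ i, ∀ z ∈ B, f i ∈ (z : ProjectiveSpectrum 𝒜).asHomogeneousIdeal.toIdeal := fun i z hz =>
    (ProjectiveSpectrum.mem_vanishingIdeal B (f i)).1 (hfJ i) z hz
  -- forms with no common zero on the closure
  haveI : LocallyOfFiniteType jP := inferInstance
  have hdY : topologicalKrullDim ↥(closure ({y} : Set (ProjectiveSpectrum 𝒜))) ≤ ((n + 1 : ℕ) : WithBot ℕ∞) := by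
    refine le_of_eq_of_le (Choice.topologicalKrullDim_closure_image _ jP (rfl : jP ≫ CohB1.ProjSpace.toSpec N k = _) (genericPoint X)) ?_
    exact (topologicalKrullDim_subspace_le X _).trans hd
  haveI : QuasiSober ↥(closure ({y} : Set (ProjectiveSpectrum 𝒜))) := by
    haveI : QuasiSober (ProjectiveSpectrum 𝒜) := inferInstanceAs (QuasiSober (CohB1.ProjSpace N k))
    exact (isClosed_closure.isClosedEmbedding_subtypeVal).quasiSober
  haveI : NoetherianSpace ↥(closure ({y} : Set (ProjectiveSpectrum 𝒜))) := by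
    haveI : NoetherianSpace (ProjectiveSpectrum 𝒜) := inferInstanceAs (NoetherianSpace (CohB1.ProjSpace N k))
    infer_instance
  haveI : T0Space ↥(closure ({y} : Set (ProjectiveSpectrum 𝒜))) := by
    haveI : T0Space (ProjectiveSpectrum 𝒜) := inferInstanceAs (T0Space (CohB1.ProjSpace N k))
    infer_instance
  obtain ⟨e', g, he', hg, -, hgcov⟩ := Choice.exists_forms
    (T := ↥(closure ({y} : Set (ProjectiveSpectrum 𝒜)))) Subtype.val continuous_subtype_val
    (HomogeneousIdeal.irrelevant 𝒜) (fun t => t.1.not_irrelevant_le) (n + 1) hdY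
  -- affine cover
  let W : Fin (n + 2) → X.Opens := fun i => j ⁻¹ᵁ Proj.basicOpen 𝒜 (f i)
  have hW : ∀ i, IsAffineOpen (W i) := fun i =>
    isAffineOpen_preimage j he (f i) (hf i) fun z hz hzr hzf => hzf (hfB i z ⟨hz, hzr⟩)
  have hcov : ⨆ i, W i = ⊤ := eq_top_iff.2 fun x _ => Opens.mem_iSup.2 (hfcov x)
  have hfy : ∀ i, f i ∈ y.asHomogeneousIdeal.toIdeal → W i = ⊥ := by
    intro i hi
    refine le_bot_iff.1 fun x hx => hx ?_
    exact ((ProjectiveSpectrum.le_iff_mem_closure 𝒜 y (j x)).2 (hcl (subset_closure ⟨x, rfl⟩))) hi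
  by_cases hall : ∀ i, f i ∉ y.asHomogeneousIdeal.toIdeal
  swap
  · -- a member of the cover is empty, so the total intersection is empty
    push Not at hall
    obtain ⟨i₀, hi₀⟩ := hall
    refine Units.subsingleton_HH_of_units F W hW hcov (fun _ => 0) (fun l => ?_) (fun M => ⟨fun _ => 0, ?_⟩)
    · rw [Scheme.basicOpen_zero]
      exact (le_bot_iff.1 ((iInf_le W i₀).trans (hfy i₀ hi₀).le)).symm
    · haveI : IsEmpty (⨅ a, W a : X.Opens) := ⟨fun x => by
        have := (iInf_le W i₀).trans (hfy i₀ hi₀).le x.2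
        exact this⟩
      haveI : Subsingleton Γ(X, (⨅ a, W a : X.Opens)) := by
        rw [show (⨅ a, W a : X.Opens) = ⊥ from le_bot_iff.1 ((iInf_le W i₀).trans (hfy i₀ hi₀).le)]
        exact CommRingCat.subsingleton_of_isTerminal X.sheaf.isTerminalOfEmpty
      exact Subsingleton.elim _ _
  let σ : Fin (n + 2) → Fin (n + 2) := fun i => i.succAbove 0
  have hσ : ∀ i, σ i ≠ i := fun i => Fin.succAbove_ne i 0
  let V : Fin (n + 2) → X.Opens := fun i => ⨅ a : {a : Fin (n + 2) // a ≠ i}, W a.1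
  have hVσ : ∀ i, V i ≤ j ⁻¹ᵁ Proj.basicOpen 𝒜 (f (σ i)) := fun i =>
    iInf_le (fun a : {a : Fin (n + 2) // a ≠ i} => W a.1) ⟨σ i, hσ i⟩
  refine Units.subsingleton_HH_of_units F W hW hcov
    (fun i => frac 𝒜 j (f i) (f (σ i)) (hf i) (hf (σ i)) (hVσ i)) (fun i => ?_) (fun M₀ => ?_)
  · refine (basicOpen_frac 𝒜 j _ _ _ _ _).trans (le_antisymm (le_iInf fun a => ?_) (le_inf
      (le_iInf fun a => iInf_le W a.1) (iInf_le W i)))
    by_cases ha : a = i
    · subst ha
      exact inf_le_right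
    · exact inf_le_left.trans (iInf_le (fun c : {c : Fin (n + 2) // c ≠ i} => W c.1) ⟨a, ha⟩)
  let P : Ideal (MvPolynomial (Fin (N + 1)) k) := y.asHomogeneousIdeal.toIdeal
  have hyb : y ≤ b := (ProjectiveSpectrum.le_iff_mem_closure 𝒜 y b).2 (hcl hb.1)
  haveI : P.IsPrime := y.isPrime
  haveI : b.asHomogeneousIdeal.toIdeal.IsPrime := b.isPrime
  obtain ⟨M, a, ha, hrem⟩ := exists_pow_mem_sup (d := n + 1) (e := e) P b.asHomogeneousIdeal.toIdeal
    (Choice.isCompStable y) (Choice.isCompStable b) hyb (Choice.exists_X_notMem b) f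
    (fun i => hf i) (fun i => hfB i b hb) g
    (fun i => by
      rw [MvPolynomial.constantCoeff_eq]
      exact (MvPolynomial.IsHomogeneous.coeff_eq_zero (hg i) (d := 0) (by simpa using he'.ne)))
    (exists_X_pow_mem y g hg fun z hz =>
      hgcov ⟨z, (ProjectiveSpectrum.le_iff_mem_closure 𝒜 y z).1 hz⟩) M₀
  have hFP : ∏ i, f i ∉ P := fun h => by
    obtain ⟨i, -, hi⟩ := (Ideal.IsPrime.prod_mem_iff (s := Finset.univ) (x := f)).1 h
    exact hall i hi
  -- degree bookkeeping
  have hFhom : ∀ s : Finset (Fin (n + 2)), ∀ m : ℕ,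
      ((∏ l ∈ s, f l) ^ m).IsHomogeneous (e * s.card * m) := fun s m => by
    have h1 : (∏ l ∈ s, f l).IsHomogeneous (∑ _l ∈ s, e) := MvPolynomial.IsHomogeneous.prod _ _ _ fun l _ => hf l
    rw [Finset.sum_const, smul_eq_mul, mul_comm] at h1
    exact h1.pow m
  have hle : M₀ + M ≤ (n + 2) * M := by
    by_contra hlt
    have hc : ∀ i, MvPolynomial.homogeneousComponent (e * (n + 1 + 1) * M) (a i * f i ^ (M₀ + M)) = 0 := by
      intro i
      refine MvPolynomial.homogeneousComponent_of_mem ((ha i).mul ((hf i).pow (M₀ + M))) |>.trans ?_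
      rw [if_neg]
      have : e * ((n + 2) * M) < e * (M₀ + M) := Nat.mul_lt_mul_of_pos_left (not_le.1 hlt) he
      rw [show e * (n + 1 + 1) * M = e * ((n + 2) * M) by ring]
      omega
    have h2 := Choice.isCompStable y _ hrem (e * (n + 1 + 1) * M)
    rw [map_sub, map_sum, Finset.sum_eq_zero fun i _ => hc i, sub_zero] at h2
    have hF : ((∏ l, f l) ^ M).IsHomogeneous (e * (n + 1 + 1) * M) := by
      simpa using hFhom Finset.univ M
    rw [MvPolynomial.homogeneousComponent_of_mem hF, if_pos rfl] at h2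
    exact hFP (‹P.IsPrime›.mem_of_pow_mem _ h2)
  let Fh : Fin (n + 2) → MvPolynomial (Fin (N + 1)) k := fun i => (∏ l ∈ Finset.univ.erase i, f l) ^ M
  have hFh : ∀ i, Fh i ∈ 𝒜 (e * (n + 1) * M) := fun i => by
    simpa using hFhom (Finset.univ.erase i) M
  have hnum : ∀ i, a i * f (σ i) ^ M₀ ∈ 𝒜 (e * (n + 1) * M) := fun i => by
    have h : (a i * f (σ i) ^ M₀).IsHomogeneous _ := (ha i).mul ((hf (σ i)).pow M₀)
    have h2 : e * (n + 1 + 1) * M - e * (M₀ + M) + e * M₀ = e * (n + 1) * M := by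
      have : e * (M₀ + M) ≤ e * ((n + 2) * M) := Nat.mul_le_mul_left e hle
      rw [show e * (n + 1 + 1) * M = e * (n + 1) * M + e * M by ring]
      rw [show e * ((n + 2) * M) = e * (n + 1) * M + e * M by ring] at this
      have h3 : e * (M₀ + M) = e * M₀ + e * M := mul_add _ _ _
      omega
    rw [h2] at h
    exact h
  have hVh : ∀ i, V i ≤ j ⁻¹ᵁ Proj.basicOpen 𝒜 (Fh i) := by
    intro i x hx hmem
    obtain ⟨l, hl, hl'⟩ := (Ideal.IsPrime.prod_mem_iff (hp := (j x).isPrime)).1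
      ((j x).isPrime.mem_of_pow_mem _ hmem)
    exact ((iInf_le (fun c : {c : Fin (n + 2) // c ≠ i} => W c.1) ⟨l, (Finset.mem_erase.1 hl).1⟩) hx) hl'
  refine ⟨fun i => frac 𝒜 j (a i * f (σ i) ^ M₀) (Fh i) (hnum i) (hFh i) (hVh i), ?_⟩
  -- compare in the function field
  let η := genericPoint X
  have hη : η ∈ (⨅ c, W c : X.Opens) := by
    rw [← Finset.inf_univ_eq_iInf, ← SetLike.mem_coe, Opens.coe_finset_inf, Finset.inf_set_eq_iInter]
    exact Set.mem_iInter₂.2 fun c _ => hall c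
  refine germ_injective_of_isIntegral X η hη ?_
  rw [map_one, map_sum]
  have hfield : IsField (X.presheaf.stalk η) := Field.toIsField X.functionField
  let L := Localization.AtPrime (y.asHomogeneousIdeal.toIdeal)
  let ι : MvPolynomial (Fin (N + 1)) k →+* L := algebraMap _ _
  have hq : ∀ i, f (σ i) ∉ (j η).asHomogeneousIdeal.toIdeal := fun i => hall (σ i)
  have hqh : ∀ i, Fh i ∉ (j η).asHomogeneousIdeal.toIdeal := fun i h => by
    obtain ⟨l, -, hl⟩ := (Ideal.IsPrime.prod_mem_iff (hp := y.isPrime)).1 (y.isPrime.mem_of_pow_mem _ h)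
    exact hall l hl
  let S : Fin (n + 2) → HomogeneousLocalization.AtPrime 𝒜 (j η).asHomogeneousIdeal.toIdeal := fun i =>
    stalkFrac 𝒜 (j η) (f i) (f (σ i)) (hf i) (hf (σ i)) (hq i) ^ M₀ *
      stalkFrac 𝒜 (j η) (a i * f (σ i) ^ M₀) (Fh i) (hnum i) (hFh i) (hqh i)
  refine Eq.trans (b := toStalk 𝒜 j η (∑ i, S i)) ?_ ?_
  · rw [map_sum]
    refine Finset.sum_congr rfl fun i _ => ?_
    rw [X.presheaf.germ_res_apply, map_mul, map_pow, germ_frac, germ_frac, map_mul, map_pow]
  have hD : e * (n + 1 + 1) * M = e * (n + 1) * M + e * M := by ring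
  have hF2 : (∏ l, f l) ^ M ∈ 𝒜 (e * (n + 1) * M + e * M) := hD ▸ by simpa using hFhom Finset.univ M
  have hrem2 : (∏ l, f l) ^ M - ∑ i, a i * f i ^ (M₀ + M) ∈ 𝒜 (e * (n + 1) * M + e * M) := by
    refine sub_mem hF2 (sum_mem fun i _ => ?_)
    have h := (ha i).mul ((hf i).pow (M₀ + M))
    have h2 : e * (n + 1 + 1) * M - e * (M₀ + M) + e * (M₀ + M) = e * (n + 1) * M + e * M := by
      have : e * (M₀ + M) ≤ e * ((n + 2) * M) := Nat.mul_le_mul_left e hle
      rw [show e * ((n + 2) * M) = e * (n + 1) * M + e * M by ring] at this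
      rw [hD]
      omega
    rw [h2] at h
    exact h
  have hFq : (∏ l, f l) ^ M ∉ (j η).asHomogeneousIdeal.toIdeal := fun h => hFP (‹P.IsPrime›.mem_of_pow_mem _ h)
  have key : ∑ i, S i + stalkFrac 𝒜 (j η) _ _ hrem2 hF2 hFq = 1 := by
    apply HomogeneousLocalization.val_injective
    rw [HomogeneousLocalization.val_add, HomogeneousLocalization.val_one]
    have hsum : (∑ i, S i).val = ∑ i, (S i).val :=
      map_sum (algebraMap (HomogeneousLocalization.AtPrime 𝒜 (j η).asHomogeneousIdeal.toIdeal) L) S Finset.univ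
    have hu : IsUnit (ι ((∏ l, f l) ^ M)) :=
      IsLocalization.map_units L (⟨_, hFq⟩ : y.asHomogeneousIdeal.toIdeal.primeCompl)
    refine hu.mul_left_injective ?_
    show _ * ι _ = 1 * ι _
    rw [one_mul, hsum, add_mul, Finset.sum_mul, val_stalkFrac, Localization.mk_eq_mk']
    have hmk : ∀ (p q : MvPolynomial (Fin (N + 1)) k) (hq : q ∈ y.asHomogeneousIdeal.toIdeal.primeCompl),
        IsLocalization.mk' L p (⟨q, hq⟩ : y.asHomogeneousIdeal.toIdeal.primeCompl) * ι q = ι p :=
      fun p q hq => IsLocalization.mk'_spec L p ⟨q, hq⟩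
    erw [hmk]
    rw [map_sub, map_sum]
    have hS : ∀ i, (S i).val * ι ((∏ l, f l) ^ M) = ι (a i * f i ^ (M₀ + M)) := by
      intro i
      simp only [S, HomogeneousLocalization.val_mul, HomogeneousLocalization.val_pow]
      rw [val_stalkFrac, val_stalkFrac, Localization.mk_eq_mk']
      rw [← Finset.mul_prod_erase Finset.univ f (Finset.mem_univ i), mul_pow, map_mul]
      have e1 := hmk (f i) (f (σ i)) (hq i)
      have e2 := hmk (a i * f (σ i) ^ M₀) (Fh i) (hqh i)
      calc _ = IsLocalization.mk' L (f i) (⟨f (σ i), hq i⟩ : y.asHomogeneousIdeal.toIdeal.primeCompl) ^ M₀ *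
            (IsLocalization.mk' L (a i * f (σ i) ^ M₀) (⟨Fh i, hqh i⟩ : y.asHomogeneousIdeal.toIdeal.primeCompl) * ι (Fh i)) *
            ι (f i ^ M) := by simp only [Fh, L, ι]; ring
        _ = (IsLocalization.mk' L (f i) (⟨f (σ i), hq i⟩ : y.asHomogeneousIdeal.toIdeal.primeCompl) * ι (f (σ i))) ^ M₀ *
            ι (a i * f i ^ M) := by rw [e2]; simp only [map_mul, map_pow]; ring
        _ = _ := by rw [e1]; simp only [map_mul, map_pow, pow_add]; ring
    rw [Finset.sum_congr rfl fun i _ => hS i]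
    ring
  rw [← map_one (toStalk 𝒜 j η), ← key, map_add, toStalk_eq_zero 𝒜 j η hfield _ _ _ _ hFq hrem, add_zero]

end Groth.Agent.H23.Lichtenbaum.QuasiProj
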