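import Groth.Agent.Lib.Cech.MV
import Mathlib.Algebra.Homology.DerivedCategory.Ext.ExtClass

/-!
Top degree cohomology of a union of acyclic opens: vanishing from decompositions of sections.
-/

set_option autoImplicit false

universe u

open CategoryTheory CategoryTheory.Limits TopologicalSpace Opposite CategoryTheory.Abelian

namespace Groth.Agent.H23.Lichtenbaum.TopMV

open Groth.Agent.Lib.Cech

variable {X : TopCat.{u}} (F : CohTop.Ab X)

theorem res_res {n : ℕ} {U V W : Opens X} (h : V ≤ U) (h' : W ≤ V) (x : CohTop.HU F n U) :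
    CohTop.res F n h' (CohTop.res F n h x) = CohTop.res F n (h'.trans h) x := by
  show ((Sheaf.cohomologyPresheaf.{u} F n).map (homOfLE h).op ≫
    (Sheaf.cohomologyPresheaf.{u} F n).map (homOfLE h').op) x = _
  rw [← Functor.map_comp, ← op_comp]
  rfl

theorem res_self {n : ℕ} {U : Opens X} (h : U ≤ U) (x : CohTop.HU F n U) :
    CohTop.res F n h x = x := by
  show (Sheaf.cohomologyPresheaf.{u} F n).map (homOfLE h).op x = x
  rw [show (homOfLE h).op = 𝟙 (op U) from rfl, CategoryTheory.Functor.map_id]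
  rfl

theorem lift_map_comm {C : Type*} [Category C] [Preadditive C] [HasBinaryBiproducts C]
    {A A' B B' D D' : C} (τ : A' ⟶ A) (p' : A' ⟶ B') (q' : A' ⟶ D') (p : A ⟶ B) (q : A ⟶ D)
    (u : B' ⟶ B) (v : D' ⟶ D) (h₁ : τ ≫ p = p' ≫ u) (h₂ : τ ≫ q = q' ≫ v) :
    τ ≫ biprod.lift p (-q) = biprod.lift p' (-q') ≫ biprod.map u v := by
  apply biprod.hom_ext <;> simp [h₁, h₂]

theorem map_desc_comm {C : Type*} [Category C] [Preadditive C] [HasBinaryBiproducts C]
    {A A' B B' D D' : C} (τ : A' ⟶ A) (p' : B' ⟶ A') (q' : D' ⟶ A') (p : B ⟶ A) (q : D ⟶ A)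
    (u : B' ⟶ B) (v : D' ⟶ D) (h₁ : u ≫ p = p' ≫ τ) (h₂ : v ≫ q = q' ≫ τ) :
    biprod.map u v ≫ biprod.desc p q = biprod.desc p' q' ≫ τ := by
  apply biprod.hom_ext' <;> simp [h₁, h₂]

theorem extClass_comp_natural {C : Type*} [Category C] [Abelian C] [HasExt.{u} C]
    {S' S : ShortComplex C} (h' : S'.ShortExact) (h : S.ShortExact) (φ : S' ⟶ S) {F : C} {n : ℕ}
    (w : Ext S.X₁ F n) :
    (Ext.mk₀ φ.τ₃).comp (h.extClass.comp w (show 1 + n = n + 1 by omega)) (zero_add (n + 1)) =
      h'.extClass.comp ((Ext.mk₀ φ.τ₁).comp w (zero_add n)) (show 1 + n = n + 1 by omega) := by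
  rw [← Ext.comp_assoc (a₁₂ := 1) _ _ _ (zero_add 1) (show 1 + n = n + 1 by omega) (by omega),
    ← h'.extClass_naturality h φ, Ext.comp_assoc_of_second_deg_zero]

/-- The connecting map of Mayer–Vietoris commutes with restriction. -/
theorem res_δ {U V U' V' : Opens X} (hU : U' ≤ U) (hV : V' ≤ V) (n : ℕ)
    (w : CohTop.HU F n (U ⊓ V)) :
    CohTop.res F (n + 1) (sup_le_sup hU hV) (MV.δ F U V n (n + 1) rfl w) =
      MV.δ F U' V' n (n + 1) rfl (CohTop.res F n (inf_le_inf hU hV) w) := by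
  let S := Opens.mayerVietorisSquare U V
  let S' := Opens.mayerVietorisSquare U' V'
  let Z : Opens X ⥤ Sheaf (Opens.grothendieckTopology X) AddCommGrpCat.{u} :=
    yoneda ⋙ (Functor.whiskeringRight _ _ _).obj AddCommGrpCat.free ⋙ presheafToSheaf _ _
  let φ : S'.shortComplex ⟶ S.shortComplex :=
    { τ₁ := Z.map (homOfLE (inf_le_inf hU hV))
      τ₂ := biprod.map (Z.map (homOfLE hU)) (Z.map (homOfLE hV))
      τ₃ := Z.map (homOfLE (sup_le_sup hU hV))
      comm₁₂ := lift_map_comm _ _ _ _ _ _ _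
        ((Z.map_comp _ _).symm.trans ((congrArg Z.map (Subsingleton.elim _ _)).trans (Z.map_comp _ _)))
        ((Z.map_comp _ _).symm.trans ((congrArg Z.map (Subsingleton.elim _ _)).trans (Z.map_comp _ _)))
      comm₂₃ := map_desc_comm _ _ _ _ _ _ _
        ((Z.map_comp _ _).symm.trans ((congrArg Z.map (Subsingleton.elim _ _)).trans (Z.map_comp _ _)))
        ((Z.map_comp _ _).symm.trans ((congrArg Z.map (Subsingleton.elim _ _)).trans (Z.map_comp _ _))) }
  exact extClass_comp_natural S'.shortComplex_shortExact S.shortComplex_shortExact φ w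

/-- All finite intersections of the family are acyclic. -/
def Acyclic {n : ℕ} (U : Fin n → Opens X) : Prop :=
  ∀ (q : ℕ) (i : Fin (q + 1) → Fin n) (m : ℕ), Subsingleton (CohTop.HU F (m + 1) (⨅ a, U (i a)))

theorem Acyclic.succ {n : ℕ} {U : Fin (n + 1) → Opens X} (h : Acyclic F U) :
    Acyclic F (fun b => U b.succ) := fun q i m => h q (fun a => (i a).succ) m

theorem Acyclic.inter {n : ℕ} {U : Fin (n + 1) → Opens X} (h : Acyclic F U) :
    Acyclic F (fun b => U 0 ⊓ U b.succ) := fun q i m => by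
  have h' := h (q + 1) (Fin.cons 0 fun a => (i a).succ) m
  rwa [show (⨅ a, U 0 ⊓ U (i a).succ) =
      ⨅ a, U ((Fin.cons 0 fun a => (i a).succ : Fin (q + 2) → Fin (n + 1)) a) from
    le_antisymm (le_iInf fun a => by
        induction a using Fin.cases with
        | zero => exact (iInf_le _ 0).trans inf_le_left
        | succ a => simpa using (iInf_le (fun a => U 0 ⊓ U (i a).succ) a).trans inf_le_right)
      (le_iInf fun a => le_inf (iInf_le_of_le 0 (by simp))
        (iInf_le_of_le a.succ (by simp)))]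

theorem sup_succ_eq {n : ℕ} (U : Fin (n + 2) → Opens X) :
    (U 0 ⊔ ⨆ b : Fin (n + 1), U b.succ) = ⨆ a, U a :=
  le_antisymm (sup_le (le_iSup U 0) (iSup_le fun b => le_iSup U b.succ))
    (iSup_le fun a => by
      induction a using Fin.cases with
      | zero => exact le_sup_left
      | succ b => exact (le_iSup (fun b : Fin (n + 1) => U b.succ) b).trans le_sup_right)

theorem inf_succ_eq {n : ℕ} (U : Fin (n + 2) → Opens X) :
    (U 0 ⊓ ⨆ b : Fin (n + 1), U b.succ) = ⨆ b : Fin (n + 1), U 0 ⊓ U b.succ := inf_iSup_eq _ _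

theorem iInf_inter_eq {n : ℕ} (U : Fin (n + 2) → Opens X) :
    (⨅ b : Fin (n + 1), U 0 ⊓ U b.succ) = ⨅ a, U a :=
  le_antisymm (le_iInf fun a => by
      induction a using Fin.cases with
      | zero => exact (iInf_le _ 0).trans inf_le_left
      | succ b => exact (iInf_le _ b).trans inf_le_right)
    (le_iInf fun b => le_inf (iInf_le _ 0) (iInf_le _ b.succ))

theorem iSup_le_iInf_one (U : Fin 1 → Opens X) : (⨆ a, U a) ≤ ⨅ a, U a :=
  iSup_le fun a => le_iInf fun b => (congrArg U (Subsingleton.elim a b)).le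

/-- The map `H⁰(⨅ U) → Hⁿ(⨆ U)` built from iterated connecting maps. -/
noncomputable def topMap :
    ∀ (n : ℕ) (U : Fin (n + 1) → Opens X), CohTop.HU F 0 (⨅ a, U a) →+ CohTop.HU F n (⨆ a, U a)
  | 0, U => CohTop.res F 0 (iSup_le_iInf_one U)
  | n + 1, U =>
      (CohTop.res F (n + 1) (sup_succ_eq U).ge).comp
        ((MV.δ F (U 0) (⨆ b : Fin (n + 1), U b.succ) n (n + 1) rfl).comp
          ((CohTop.res F n (inf_succ_eq U).le).comp
            ((topMap n (fun b => U 0 ⊓ U b.succ)).comp (CohTop.res F 0 (iInf_inter_eq U).le))))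

theorem topMap_zero (U : Fin 1 → Opens X) (s : CohTop.HU F 0 (⨅ a, U a)) :
    topMap F 0 U s = CohTop.res F 0 (iSup_le_iInf_one U) s := rfl

theorem topMap_succ (n : ℕ) (U : Fin (n + 2) → Opens X) (s : CohTop.HU F 0 (⨅ a, U a)) :
    topMap F (n + 1) U s = CohTop.res F (n + 1) (sup_succ_eq U).ge
      (MV.δ F (U 0) (⨆ b : Fin (n + 1), U b.succ) n (n + 1) rfl
        (CohTop.res F n (inf_succ_eq U).le
          (topMap F n (fun b => U 0 ⊓ U b.succ) (CohTop.res F 0 (iInf_inter_eq U).le s)))) := rfl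

theorem topMap_natural : ∀ (n : ℕ) (U U' : Fin (n + 1) → Opens X) (h : ∀ a, U' a ≤ U a)
    (s : CohTop.HU F 0 (⨅ a, U a)),
    CohTop.res F n (iSup_mono h) (topMap F n U s) = topMap F n U' (CohTop.res F 0 (iInf_mono h) s)
  | 0, U, U', h, s => by rw [topMap_zero, topMap_zero, res_res, res_res]
  | n + 1, U, U', h, s => by
    have h' : ∀ b : Fin (n + 1), U' 0 ⊓ U' b.succ ≤ U 0 ⊓ U b.succ := fun b => inf_le_inf (h 0) (h b.succ)
    have hsup : (U' 0 ⊔ ⨆ b : Fin (n + 1), U' b.succ) ≤ U 0 ⊔ ⨆ b : Fin (n + 1), U b.succ :=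
      sup_le_sup (h 0) (iSup_mono fun b => h b.succ)
    rw [topMap_succ, topMap_succ, res_res, res_res, ← res_res F hsup (sup_succ_eq U').ge,
      res_δ F (U := U 0) (V := ⨆ b : Fin (n + 1), U b.succ) (U' := U' 0) (V' := ⨆ b : Fin (n + 1), U' b.succ)
        (h 0) (iSup_mono fun b => h b.succ), res_res,
      ← res_res F (iSup_mono h') (inf_succ_eq U').le, topMap_natural n _ _ h', res_res]

theorem topMap_surjective : ∀ (n : ℕ) (U : Fin (n + 1) → Opens X), Acyclic F U →
    Function.Surjective (topMap F n U)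
  | 0, U, _, z => ⟨CohTop.res F 0 ((iInf_le _ 0).trans (le_iSup U 0)) z, by rw [topMap_zero, res_res, res_self]⟩
  | n + 1, U, hU, z => by
    haveI : Subsingleton (CohTop.HU F (n + 1) (U 0)) := by
      have h := hU 0 (fun _ => 0) n
      rwa [iInf_const] at h
    haveI : Subsingleton (CohTop.HU F (n + 1) (⨆ b : Fin (n + 1), U b.succ)) :=
      MV.subsingleton_HU_iSup_fin F n (fun b => U b.succ) hU.succ (n + 1) le_rfl
    obtain ⟨w, hw⟩ := MV.exists_δ_eq F (U 0) (⨆ b : Fin (n + 1), U b.succ) n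
      (CohTop.res F (n + 1) (sup_succ_eq U).le z) (Subsingleton.elim _ _) (Subsingleton.elim _ _)
    obtain ⟨s, hs⟩ := topMap_surjective n (fun b => U 0 ⊓ U b.succ) hU.inter
      (CohTop.res F n (inf_succ_eq U).ge w)
    refine ⟨CohTop.res F 0 (iInf_inter_eq U).ge s, ?_⟩
    rw [topMap_succ, res_res F (iInf_inter_eq U).ge (iInf_inter_eq U).le, res_self, hs,
      res_res F (inf_succ_eq U).ge (inf_succ_eq U).le, res_self, hw, res_res, res_self]

theorem δ_res_left {U V : Opens X} (n : ℕ) {Z : Opens X} (hU : U ≤ Z) (h : U ⊓ V ≤ Z)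
    (z : CohTop.HU F n Z) : MV.δ F U V n (n + 1) rfl (CohTop.res F n h z) = 0 := by
  have : CohTop.res F n h z =
      CohTop.res F n inf_le_left (CohTop.res F n hU z) - CohTop.res F n inf_le_right (0 : CohTop.HU F n V) := by
    rw [map_zero, sub_zero, res_res]
  rw [this, MV.δ_sub]

theorem δ_res_right {U V : Opens X} (n : ℕ) {Z : Opens X} (hV : V ≤ Z) (h : U ⊓ V ≤ Z)
    (z : CohTop.HU F n Z) : MV.δ F U V n (n + 1) rfl (CohTop.res F n h z) = 0 := by
  have : CohTop.res F n h z =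
      CohTop.res F n inf_le_left (0 : CohTop.HU F n U) - CohTop.res F n inf_le_right (-(CohTop.res F n hV z)) := by
    rw [map_zero, zero_sub, map_neg, neg_neg, res_res]
  rw [this, MV.δ_sub]

theorem topMap_kill_head (n : ℕ) (U : Fin (n + 2) → Opens X) (h : (⨅ a, U a) ≤ ⨅ b : Fin (n + 1), U b.succ)
    (t : CohTop.HU F 0 (⨅ b : Fin (n + 1), U b.succ)) :
    topMap F (n + 1) U (CohTop.res F 0 h t) = 0 := by
  have hle : ∀ b : Fin (n + 1), U 0 ⊓ U b.succ ≤ U b.succ := fun b => inf_le_right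
  have hnat := topMap_natural F n (fun b => U b.succ) (fun b => U 0 ⊓ U b.succ) hle t
  rw [topMap_succ, res_res F h, ← hnat, res_res,
    δ_res_right F (U := U 0) (V := ⨆ b : Fin (n + 1), U b.succ) n le_rfl, map_zero]

theorem topMap_kill_two (U : Fin 2 → Opens X) (h : (⨅ a, U a) ≤ U 0) (t : CohTop.HU F 0 (U 0)) :
    topMap F 1 U (CohTop.res F 0 h t) = 0 := by
  rw [topMap_succ, res_res F h, topMap_zero, res_res, res_res,
    δ_res_left F (U := U 0) (V := ⨆ b : Fin 1, U b.succ) 0 le_rfl, map_zero]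

theorem topMap_kill : ∀ (n : ℕ) (U : Fin (n + 2) → Opens X) (j : Fin (n + 2))
    (h : (⨅ a, U a) ≤ ⨅ a : {a // a ≠ j}, U a) (t : CohTop.HU F 0 (⨅ a : {a // a ≠ j}, U a)),
    topMap F (n + 1) U (CohTop.res F 0 h t) = 0 := by
  intro n
  induction n with
  | zero =>
    intro U j h t
    induction j using Fin.cases with
    | zero =>
      have hle : (⨅ b : Fin 1, U b.succ) ≤ ⨅ a : {a // a ≠ (0 : Fin 2)}, U a := le_iInf fun a => by
        obtain ⟨b, hb⟩ := Fin.exists_succ_eq.2 a.2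
        exact hb ▸ iInf_le _ b
      rw [← res_res F hle (le_iInf fun b => iInf_le U b.succ), topMap_kill_head]
    | succ j =>
      have hle : U 0 ≤ ⨅ a : {a // a ≠ j.succ}, U a := le_iInf fun a => by
        have : a.1 = 0 := by
          obtain ⟨a, ha⟩ := a
          fin_cases j
          fin_cases a
          · rfl
          · exact absurd rfl ha
        rw [this]
      rw [← res_res F hle (iInf_le U 0), topMap_kill_two]
  | succ n ih =>
    intro U j h t
    induction j using Fin.cases with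
    | zero =>
      have hle : (⨅ b : Fin (n + 2), U b.succ) ≤ ⨅ a : {a // a ≠ (0 : Fin (n + 3))}, U a := le_iInf fun a => by
        obtain ⟨b, hb⟩ := Fin.exists_succ_eq.2 a.2
        exact hb ▸ iInf_le _ b
      rw [← res_res F hle (le_iInf fun b => iInf_le U b.succ), topMap_kill_head]
    | succ j =>
      have hle : (⨅ b : {b // b ≠ j}, U 0 ⊓ U b.1.succ) ≤ ⨅ a : {a // a ≠ j.succ}, U a := le_iInf fun a => by
        obtain ⟨a, ha⟩ := a
        induction a using Fin.cases with
        | zero =>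
          obtain ⟨b, hb⟩ := exists_ne j
          exact iInf_le_of_le ⟨b, hb⟩ inf_le_left
        | succ b => exact iInf_le_of_le ⟨b, fun hh => ha (congrArg Fin.succ hh)⟩ inf_le_right
      have hin : (⨅ b : Fin (n + 2), U 0 ⊓ U b.succ) ≤ ⨅ b : {b // b ≠ j}, U 0 ⊓ U b.1.succ :=
        le_iInf fun b => iInf_le (fun b : Fin (n + 2) => U 0 ⊓ U b.succ) b.1
      rw [topMap_succ, res_res F h, ← res_res F hle hin, ih (fun b => U 0 ⊓ U b.succ) j hin, map_zero,
        map_zero, map_zero]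

theorem iInf_le_others {n : ℕ} (U : Fin n → Opens X) (j : Fin n) :
    (⨅ a, U a) ≤ ⨅ a : {a // a ≠ j}, U a.1 :=
  le_iInf fun a => iInf_le U a.1

/-- If every section on the intersection of `n + 2` acyclic opens is a sum of restrictions from the
intersections of `n + 1` of them, top cohomology of the union vanishes. -/
theorem subsingleton_top {n : ℕ} (U : Fin (n + 2) → Opens X) (hU : Acyclic F U)
    (h : ∀ s : CohTop.HU F 0 (⨅ a, U a), ∃ t : ∀ j : Fin (n + 2), CohTop.HU F 0 (⨅ a : {a : Fin (n + 2) // a ≠ j}, U a.1),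
      s = ∑ j : Fin (n + 2), CohTop.res F 0 (U := ⨅ a : {a : Fin (n + 2) // a ≠ j}, U a.1) (V := ⨅ a, U a) (iInf_le_others U j) (t j)) :
    Subsingleton (CohTop.HU F (n + 1) (⨆ a, U a)) := by
  refine subsingleton_of_forall_eq 0 fun z => ?_
  obtain ⟨s, rfl⟩ := topMap_surjective F (n + 1) U hU z
  obtain ⟨t, rfl⟩ := h s
  rw [map_sum]
  exact Finset.sum_eq_zero fun j _ => topMap_kill F n U j _ _

end Groth.Agent.H23.Lichtenbaum.TopMV
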