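import Groth.Agent.H23.Lichtenbaum.TopMV
import Groth.Agent.Lib.ZarCoh.Affine
import Groth.Agent.Lib.ZarCoh.Compare
import Groth.Agent.Lib.QCoh.Localizing
import Groth.Agent.S0010

/-!
Vanishing of the top cohomology when powers of the local units generate the unit ideal.
-/

set_option autoImplicit false

universe u

open CategoryTheory CategoryTheory.Limits AlgebraicGeometry TopologicalSpace Opposite CategoryTheory.Abelian

namespace Groth.Agent.H23.Lichtenbaum.Units

open Groth.Agent.Lib Groth.Agent.Lib.ZarCoh.Basic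

section Sect

variable {X : TopCat.{u}} (F : CohTop.Ab X)

/-- Sections as cohomology classes of degree zero. -/
noncomputable def sect (U : Opens X) : F.obj.obj (op U) →+ CohTop.HU F 0 U :=
  AddMonoidHom.mk' (fun s => Ext.mk₀ ((homEquiv U F).symm s)) fun a b => by
    have h : (homEquiv U F).symm (a + b) = (homEquiv U F).symm a + (homEquiv U F).symm b := by
      apply (homEquiv U F).injective
      rw [homEquiv_add]
      simp only [Equiv.apply_symm_apply]
    show Ext.mk₀ ((homEquiv U F).symm (a + b)) = _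
    rw [h, Ext.mk₀_add]
    rfl

theorem sect_surjective (U : Opens X) : Function.Surjective (sect F U) := fun z => by
  obtain ⟨φ, rfl⟩ := (Ext.mk₀_bijective _ _).2 z
  exact ⟨homEquiv U F φ, congrArg Ext.mk₀ ((homEquiv U F).symm_apply_apply φ)⟩

theorem res_sect {U V : Opens X} (h : V ≤ U) (s : F.obj.obj (op U)) :
    CohTop.res F 0 h (sect F U s) = sect F V (F.obj.map (homOfLE h).op s) := by
  rw [res_eq_rs]
  show rs F 0 h (Ext.mk₀ _) = Ext.mk₀ _
  rw [rs_mk₀]
  congr 1
  apply (homEquiv V F).injective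
  rw [homEquiv_res, Equiv.apply_symm_apply, Equiv.apply_symm_apply]

end Sect

/-- Sections of a module as cohomology classes of degree zero. -/
noncomputable def sectM {X : Scheme.{u}} (F : X.Modules) (U : X.Opens) :
    Γ(F, U) →+ CohTop.HU (Coh.toAb F) 0 U :=
  sect (Coh.toAb F) U

theorem res_sectM {X : Scheme.{u}} (F : X.Modules) {U V : X.Opens} (h : V ≤ U) (s : Γ(F, U)) :
    CohTop.res (Coh.toAb F) 0 h (sectM F U s) = sectM F V (F.presheaf.map (homOfLE h).op s) :=
  res_sect (Coh.toAb F) h s

theorem sectM_surjective {X : Scheme.{u}} (F : X.Modules) (U : X.Opens) :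
    Function.Surjective (sectM F U) :=
  sect_surjective (Coh.toAb F) U

variable {X : Scheme.{u}} [X.IsSeparated]

theorem isAffineOpen_inter_others {n : ℕ} (W : Fin (n + 2) → X.Opens) (hW : ∀ a, IsAffineOpen (W a))
    (j : Fin (n + 2)) : IsAffineOpen (⨅ a : {a : Fin (n + 2) // a ≠ j}, W a.1 : X.Opens) := by
  have := Groth.Agent.S0010.inter_affine (X := X) (fun V V' h h' => h.inf h') n
    (fun a => W (finSuccAboveEquiv j a).1) fun a => hW _
  rwa [(finSuccAboveEquiv j).iInf_comp (g := fun a : {a : Fin (n + 2) // a ≠ j} => W a.1)] at this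

/-- If, on a cover by `n + 2` affines, the total intersection is a principal open of each
intersection of all but one of the members, and all powers of these functions generate the unit ideal
there, then `H^(n+1)` of every quasi-coherent module vanishes. -/
theorem subsingleton_HH_of_units (F : X.Modules) [Coh.IsQCoh F] {n : ℕ} (W : Fin (n + 2) → X.Opens)
    (hW : ∀ a, IsAffineOpen (W a)) (hcov : ⨆ a, W a = ⊤)
    (u : ∀ j : Fin (n + 2), Γ(X, (⨅ a : {a : Fin (n + 2) // a ≠ j}, W a.1 : X.Opens)))
    (hu : ∀ j, X.basicOpen (u j) = ⨅ a, W a)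
    (hgen : ∀ N : ℕ, ∃ c : ∀ j : Fin (n + 2), Γ(X, (⨅ a : {a : Fin (n + 2) // a ≠ j}, W a.1 : X.Opens)),
      ∑ j : Fin (n + 2), X.presheaf.map (homOfLE (TopMV.iInf_le_others (X := X.carrier) W j)).op (u j ^ N * c j) =
        (1 : Γ(X, (⨅ a, W a : X.Opens)))) :
    Subsingleton (Coh.HH X F (n + 1)) := by
  haveI : F.IsQuasicoherent := ‹Coh.IsQCoh F›
  have hac : TopMV.Acyclic (Coh.toAb F) W := fun q i m =>
    ZarCoh.Affine.HU_subsingleton F
      (Groth.Agent.S0010.inter_affine (fun V V' h h' => h.inf h') q (fun a => W (i a)) fun a => hW _) m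
  have h := TopMV.subsingleton_top (Coh.toAb F) W hac fun z => by
    obtain ⟨s', rfl⟩ := sectM_surjective F _ z
    have hloc : ∀ j : Fin (n + 2), ∃ (N : ℕ) (t : Γ(F, (⨅ a : {a : Fin (n + 2) // a ≠ j}, W a.1 : X.Opens))),
        (X.presheaf.map (homOfLE (TopMV.iInf_le_others (X := X.carrier) W j)).op (u j)) ^ N • s' =
          F.presheaf.map (homOfLE (TopMV.iInf_le_others (X := X.carrier) W j)).op t := by
      intro j
      have hl := QCoh.Localizing.localizes_of_isAffineOpen F (isAffineOpen_inter_others W hW j) (u j)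
      obtain ⟨m, t, h⟩ := hl.ext'.exists_of_eq (hu j).symm (TopMV.iInf_le_others (X := X.carrier) W j) s'
      exact ⟨m, t, h.symm⟩
    choose N t ht using hloc
    obtain ⟨c, hc⟩ := hgen (Finset.univ.sup N)
    refine ⟨fun j => sectM F _
      ((u j ^ (Finset.univ.sup N - N j) * c j) • t j : Γ(F, (⨅ a : {a : Fin (n + 2) // a ≠ j}, W a.1 : X.Opens))), ?_⟩
    refine Eq.trans ?_ (Finset.sum_congr rfl fun j _ => (res_sectM F _ _).symm)
    rw [← map_sum]
    refine congrArg (sectM F _) ?_
    calc s' = (1 : Γ(X, (⨅ a, W a : X.Opens))) • s' := (one_smul _ _).symm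
      _ = _ := by
        rw [← hc, Finset.sum_smul]
        refine Finset.sum_congr rfl fun j _ => ?_
        refine Eq.trans ?_ (Scheme.Modules.map_smul F _ _ _).symm
        rw [← ht j, smul_smul, map_mul, map_mul, map_pow, map_pow]
        congr 1
        rw [mul_assoc, mul_comm _ ((X.presheaf.map _ (u j)) ^ N j), ← mul_assoc,
          ← pow_add, Nat.sub_add_cancel (Finset.le_sup (Finset.mem_univ j))]
  rw [hcov] at h
  haveI : Subsingleton (CategoryTheory.Abelian.Ext.{u}
    (Zs.obj (⊤ : TopologicalSpace.Opens X)) (Coh.toAb F) (n + 1)) := h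
  exact (ZarCoh.Compare.hTop (Coh.toAb F) (n + 1)).toEquiv.subsingleton

end Groth.Agent.H23.Lichtenbaum.Units
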